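import Groth.Agent.Coherent.K54.CxAlg
import Groth.Agent.Models2.GenCx
import Groth.Agent.Ega3B.Package
import Groth.Agent.Ega3B.FlatRestrict
import Groth.Agent.Ega3B.SpecPoint
import Groth.Agent.PerfC.FPSections
import Groth.Agent.CohqA.RelCoh2

/-!
# The universal complex over an affine open of an arbitrary base, with fibres

`package`: for `f : X ⟶ Y` proper and locally of finite presentation (`Y` arbitrary), `F` finitely
presented and flat over `Y`, `V` an affine open of `Y`: a bounded complex `P` of finite projective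
`Γ(Y, V)`-modules with `H_{-p}(P) = Γ(V, R^p f_* F)` and `dim H^p(X_y, F_y) = dRank P (-p) y`, `y ∈ V`.
-/

set_option autoImplicit false
universe u

open AlgebraicGeometry CategoryTheory CategoryTheory.Limits

namespace K54.FibreCx

open Groth.Agent Groth.Agent.Ega3B Groth.Agent.Ega3B.PackageAsm

theorem fibreSec {X Y : Scheme.{u}} (f : X ⟶ Y) (F : X.Modules) (hF : Coh.IsQCoh F)
    {V : Y.Opens} (hV : IsAffineOpen V) (y : V) (p : ℕ) : FibreSec f F hV y p :=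
  FibreResid.fibreSec_of f F hV y p fun g q H => by
    let _ : (f ⁻¹ᵁ V).toScheme.Over (Spec (CommRingCat.of Γ(Y, V))) := ⟨PackageAsm.strMap f hV⟩
    obtain ⟨e, he⟩ := FibreCmp.exists_cmp g q H (F.restrict (f ⁻¹ᵁ V).ι)
      (Groth.Agent.CohqB.LocalQC.isQCoh_restrict (f ⁻¹ᵁ V).ι hF) p
    exact ⟨e, fun a x => by rw [he, FibreCmp.mulB_algebraMap]⟩

/-- The fibre dimensions from a universal complex. -/
theorem fiberRank_eq {X Y : Scheme.{u}} (f : X ⟶ Y) (F : X.Modules) (hF : Coh.IsQCoh F)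
    {V : Y.Opens} (hV : IsAffineOpen V) (P : ChainComplex (ModuleCat.{u} Γ(Y, V)) ℤ) (p : ℕ)
    (hP : Module.Finite Γ(Y, V) (P.X (-(p : ℤ))))
    (hT : letI : (f ⁻¹ᵁ V).toScheme.Over (Spec (CommRingCat.of Γ(Y, V))) := ⟨PackageAsm.strMap f hV⟩
      Nonempty (CohIII.tensorAFunctor Γ(Y, V) (F.restrict (f ⁻¹ᵁ V).ι) ⋙ CohIII.HAb _ p ≅
        CohIII.TFun P (-(p : ℤ)) ⋙ forget₂ (ModuleCat.{u} Γ(Y, V)) AddCommGrpCat.{u})) (y : V) :
    Module.Finite (Y.residueField y.1) (CohIII.fiberH f F y.1 p) ∧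
        CohIII.fiberRank f F p y.1 = CohIII.dRank P (-(p : ℤ)) (hV.primeIdealOf y) := by
  obtain ⟨e, he⟩ := fibreSec f F hF hV y p
  obtain ⟨e'⟩ := hT
  obtain ⟨σ, hσ⟩ := FibreRank.exists_sigma hV y
  refine FibreRank.finrank_eq_dRank P (-(p : ℤ)) (hV.primeIdealOf y)
    (Y.evaluation V y.1 y.2).hom σ hσ (FibreRank.exists_fraction hV y)
    (e.trans (e'.app _).addCommGroupIsoToAddEquiv) ?_
  intro a w
  have h1 := e'.hom.naturality (a • 𝟙 (ModuleCat.of Γ(Y, V) (hV.primeIdealOf y).asIdeal.ResidueField))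
  have h2 := congr($(h1) (e w))
  change (e'.hom.app _).hom (e _) = _
  rw [he]
  exact h2

/-- **The package over an arbitrary base.** -/
theorem package {X Y : Scheme.{u}} (f : X ⟶ Y) [IsProper f] [LocallyOfFinitePresentation f]
    [HasInjectiveResolutions X.Modules] (F : X.Modules) (hF : CohB1.IsFP F)
    (hfl : FlatMod.IsFlatOver f F) (V : Y.Opens) (hV : IsAffineOpen V) :
    ∃ P : ChainComplex (ModuleCat.{u} Γ(Y, V)) ℤ,
      (∀ i, Module.Finite Γ(Y, V) (P.X i) ∧ Module.Projective Γ(Y, V) (P.X i)) ∧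
      (∃ b : ℤ, ∀ i, (i < b ∨ 0 < i) → IsZero (P.X i)) ∧
      (∀ p : ℕ, Nonempty (Γ((Coh.Rpush f p).obj F, V) ≃ₗ[Γ(Y, V)] P.homology (-(p : ℤ)))) ∧
      (∀ (y : V) (p : ℕ), Module.Finite (Y.residueField y.1) (CohIII.fiberH f F y.1 p) ∧
        CohIII.fiberRank f F p y.1 = CohIII.dRank P (-(p : ℤ)) (hV.primeIdealOf y)) := by
  have hq : Coh.IsQCoh F := Models2.FPCoh.isQCoh_of_isFP hF
  let iO : (f ⁻¹ᵁ V).toScheme.Over (Spec (CommRingCat.of Γ(Y, V))) := ⟨strMap f hV⟩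
  have hpr : IsProper ((f ⁻¹ᵁ V).toScheme ↘ Spec (CommRingCat.of Γ(Y, V))) :=
    inferInstanceAs (IsProper ((f ∣_ V) ≫ hV.isoSpec.hom))
  have hlfp : LocallyOfFinitePresentation ((f ⁻¹ᵁ V).toScheme ↘ Spec (CommRingCat.of Γ(Y, V))) :=
    inferInstanceAs (LocallyOfFinitePresentation ((f ∣_ V) ≫ hV.isoSpec.hom))
  have hF' : CohB1.IsFP (F.restrict (f ⁻¹ᵁ V).ι) := PerfC.FPSections.isFP_restrict _ hF
  have hfl' : FlatMod.IsFlatOver ((f ⁻¹ᵁ V).toScheme ↘ Spec (CommRingCat.of Γ(Y, V)))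
      (F.restrict (f ⁻¹ᵁ V).ι) := by
    refine FlatRestrict.isFlatOver_restrict f _ (f ⁻¹ᵁ V).ι hV.fromSpec ?_ F hfl
    change _ = ((f ∣_ V) ≫ hV.isoSpec.hom) ≫ hV.fromSpec
    rw [Category.assoc, IsAffineOpen.isoSpec_hom_fromSpec, morphismRestrict_ι]
  obtain ⟨P, hP, hb, hT, hH⟩ := Models2.GenCx.exists_complex (f ⁻¹ᵁ V).toScheme
    (F.restrict (f ⁻¹ᵁ V).ι) hF' hfl'
  refine ⟨P, hP, hb, fun p => ?_, fun y p => fiberRank_eq f F hq hV P p (hP _).1 (hT p) y⟩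
  obtain ⟨e, he⟩ := RpushAff.exists_equiv_toGlobal f F hq hV p
  obtain ⟨e'⟩ := hH p
  let e0 : Γ((Coh.Rpush f p).obj F, V) ≃ₗ[Γ(Y, V)]
      Coh.HH (f ⁻¹ᵁ V).toScheme (F.restrict (f ⁻¹ᵁ V).ι) p := { e with map_smul' := he }
  exact ⟨e0.trans e'.symm⟩

/-- A vanishing fibre cohomology in degree `p` over `V` gives a vanishing rank function. -/
theorem dRank_eq_zero {X Y : Scheme.{u}} (f : X ⟶ Y) (F : X.Modules)
    {V : Y.Opens} (hV : IsAffineOpen V) (P : ChainComplex (ModuleCat.{u} Γ(Y, V)) ℤ) (p : ℕ)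
    (h : ∀ y : V, CohIII.fiberRank f F p y.1 = CohIII.dRank P (-(p : ℤ)) (hV.primeIdealOf y))
    (h0 : ∀ y : Y, Subsingleton (CohIII.fiberH f F y p)) (x : PrimeSpectrum Γ(Y, V)) :
    CohIII.dRank P (-(p : ℤ)) x = 0 := by
  have h1 := h ⟨hV.fromSpec x, SpecPoint.fromSpec_mem hV x⟩
  rw [SpecPoint.primeIdealOf_fromSpec] at h1
  rw [← h1]
  have := h0 (hV.fromSpec x)
  exact Module.finrank_zero_of_subsingleton

end K54.FibreCx
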