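import Groth.Agent.Coherent.K54.PushBC
import Groth.Agent.Coherent.K54.FibreCx
import Groth.Agent.CurvesB.NodalRpush

/-!
# `R^1 π_* F` of a flat family with vanishing `H^2` of the fibres

`isFinLocFree_one`: `R^1 π_* F` is finite locally free if `H^2` of all fibres vanishes and the degree-0 base
change maps of all fibres are epimorphisms.
-/

set_option autoImplicit false
universe u

open AlgebraicGeometry CategoryTheory CategoryTheory.Limits Scheme.Modules TensorProduct

namespace K54.PushH1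

open Groth.Agent Groth.Agent.Ega3B K55 K55.Pack K55.KerAlg K54.PushSec K54.PushBC

/-- `H^1` is finite projective if `K.O 1` is projective and `H^2` vanishes at all points. -/
theorem finite_projective_H1 {A : Type u} [CommRing A] (K : CxData A)
    (h1 : ∀ p : PrimeSpectrum A, p ∈ Module.freeLocus A (K.O 1))
    (h2 : ∀ p : PrimeSpectrum A, Subsingleton (K.HB 2 p.asIdeal.ResidueField)) :
    Module.Finite A (K.H 1) ∧ Module.Projective A (K.H 1) := by
  have i1 : Module.Projective A (K.O 1) := by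
    rw [← Module.freeLocus_eq_univ_iff]
    exact Set.eq_univ_iff_forall.2 h1
  have i2 : Module.Projective A (K.O (1 + 1)) := by
    rw [← Module.freeLocus_eq_univ_iff]
    exact Set.eq_univ_iff_forall.2 fun p => (of_subsingleton_ker (K.exact 2) (K.surj 2) p (h2 p)).2.1
  exact ⟨finite_ker (K.exact 1) (K.surj 1), (projective_ker_iff (K.exact 1) (K.surj 1)).2 i1⟩

variable {X Y : Scheme.{u}} (π : X ⟶ Y) (F : X.Modules)

/-- Vanishing of `H^p` of the fibre at `y` in terms of `K`. -/
theorem subsingleton_HB (hF : Coh.IsQCoh F) {V : Y.Opens} (hV : IsAffineOpen V) (K : CxData Γ(Y, V))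
    (hK : CompData π F hV K) (y : V) (p : ℕ) (h : Subsingleton (CohIII.fiberH π F y.1 p)) :
    Subsingleton (K.HB p (hV.primeIdealOf y).asIdeal.ResidueField) := by
  let iO : (π ⁻¹ᵁ V).toScheme.Over (Spec (CommRingCat.of Γ(Y, V))) := ⟨PackageAsm.strMap π hV⟩
  obtain ⟨e, -⟩ := K54.FibreCx.fibreSec π F hF hV y p
  obtain ⟨g, q, σ, -, H, -⟩ := EtPoint.exists_square π hV y
  obtain ⟨e', -⟩ := FibreCmp.exists_cmp g q H (F.restrict (π ⁻¹ᵁ V).ι)
    (Groth.Agent.CohqB.LocalQC.isQCoh_restrict (π ⁻¹ᵁ V).ι hF) p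
  obtain ⟨θ₀, hθ⟩ := hK p
  obtain ⟨θ, -, -⟩ := hθ.bc (hV.primeIdealOf y).asIdeal.ResidueField _ g q H
  exact ((e.trans e'.symm).trans θ).symm.toEquiv.subsingleton

/-- The sections of `R^p π_* F` over an affine open. -/
theorem exists_linearEquiv_Rpush [HasInjectiveResolutions X.Modules] (hF : Coh.IsQCoh F)
    [QuasiCompact π] [QuasiSeparated π] {V : Y.Opens}
    (hV : IsAffineOpen V) (K : CxData Γ(Y, V)) (hK : CompData π F hV K) (p : ℕ) :
    Nonempty (Γ((Coh.Rpush π p).obj F, V) ≃ₗ[Γ(Y, V)] K.H p) := by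
  let iO : (π ⁻¹ᵁ V).toScheme.Over (Spec (CommRingCat.of Γ(Y, V))) := ⟨PackageAsm.strMap π hV⟩
  obtain ⟨e, he⟩ := RpushAff.exists_equiv_toGlobal π F hF hV p
  obtain ⟨θ₀, hθ⟩ := hK p
  exact ⟨{ e.trans θ₀ with map_smul' := fun a x => (congrArg θ₀ (he a x)).trans (hθ.smul a (e x)) }⟩

theorem isFinLocFree_one [IsProper π] [LocallyOfFinitePresentation π] [HasInjectiveResolutions X.Modules]
    (hF : Coh.IsQCoh F) (hfp : CohB1.IsFP F) (hfl : FlatMod.IsFlatOver π F)
    (h2 : ∀ y : Y, Subsingleton (CohIII.fiberH π F y 2))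
    (h0 : ∀ y : Y, Epi (((pullbackPushforwardAdjunction (Y.fromSpecResidueField y)).homEquiv ((pushforward π).obj F)
            ((pushforward (π.fiberToSpecResidueField y)).obj
              ((Scheme.Modules.pullback (π.fiberι y)).obj F))).symm
          ((pushforward π).map ((pullbackPushforwardAdjunction (π.fiberι y)).unit.app F) ≫
            (pushforwardComp (π.fiberι y) π).hom.app ((Scheme.Modules.pullback (π.fiberι y)).obj F) ≫
            (pushforwardCongr (π.fiber_fac y)).hom.app ((Scheme.Modules.pullback (π.fiberι y)).obj F) ≫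
            (pushforwardComp (π.fiberToSpecResidueField y) (Y.fromSpecResidueField y)).inv.app
              ((Scheme.Modules.pullback (π.fiberι y)).obj F)))) :
    FlatMod.IsFinLocFree ((Coh.Rpush π 1).obj F) := by
  refine CurvesB.NodalRpush.isFinLocFree_of_sections _ (CohqA.RelCoh.isQCoh_Rpush π F hF 1) fun V hV => ?_
  obtain ⟨K, hK⟩ := exists_compData π F hfp hfl hV
  have hs := secData π F hV K hK
  obtain ⟨h3, h4⟩ := finite_projective_H1 K (fun p => by
      have := mem_freeLocus_of_epi π F hF hV K hs ⟨hV.fromSpec p, SpecPoint.fromSpec_mem hV p⟩ (h0 _)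
      rwa [SpecPoint.primeIdealOf_fromSpec] at this)
    (fun p => by
      have := subsingleton_HB π F hF hV K hK ⟨hV.fromSpec p, SpecPoint.fromSpec_mem hV p⟩ 2 (h2 _)
      rwa [SpecPoint.primeIdealOf_fromSpec] at this)
  obtain ⟨e⟩ := exists_linearEquiv_Rpush π F hF hV K hK 1
  exact ⟨Module.Finite.equiv e.symm, Module.Projective.of_equiv e.symm⟩

end K54.PushH1
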