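import Groth.Agent.Ega3B.SplitCx

/-!
# Complexes of finite projective modules over an arbitrary ring: fibrewise vanishing in one degree

`A` any commutative ring, `P` a chain complex of finite projective `A`-modules.

* `projective_opcycles_of_dRank_eq_zero`: `dRank P i = 0` on `Spec A` implies that `opcycles i` and
  `opcycles (i-1)` are (finite) projective;
* `isZero_homology_of_dRank_eq_zero`, `isZero_T_of_dRank_eq_zero`: then `H_i(P ⊗ M) = 0` for every `M`;
* `finite_projective_homology`: if `opcycles i`, `opcycles (i-1)` are projective then `H_i(P)` is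
  finite projective of rank `dRank P i`.
-/

set_option autoImplicit false
universe u

open CategoryTheory CategoryTheory.Limits TensorProduct Function
open Groth.Agent.Ega3A.FiberRank Groth.Agent.Ega3A.DRank Groth.Agent.Ega3A.TFunFlat
open Groth.Agent.Ega3A.FlatSES

namespace K54.CxAlg

section Modules

variable {A : Type u} [CommRing A]

/-- Over a local ring: `f : C → Q` injective on the closed fibre, `C` finite, `Q` finite free. -/
theorem exists_retraction_local {R : Type u} [CommRing R] [IsLocalRing R] {C Q : Type u}
    [AddCommGroup C] [AddCommGroup Q] [Module R C] [Module R Q] [Module.Finite R C] [Module.Finite R Q]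
    [Module.Free R Q] (f : C →ₗ[R] Q)
    (h : Injective (f.lTensor (IsLocalRing.ResidueField R))) : ∃ l : Q →ₗ[R] C, l ∘ₗ f = LinearMap.id :=
  (IsLocalRing.split_injective_iff_lTensor_residueField_injective f).mpr h

/-- If the fibre ranks in a right exact sequence `C ⟶ Q ⟶ D ⟶ 0` with `Q` finite projective are additive,
then `C` and `D` are projective and `C ⟶ Q` is injective. No Noetherian hypothesis. -/
theorem projective_of_fiberRank_add {C Q D : Type u} [AddCommGroup C]
    [AddCommGroup Q] [AddCommGroup D] [Module A C] [Module A Q] [Module A D]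
    [Module.FinitePresentation A C] [Module.Finite A Q] [Module.Projective A Q]
    [Module.FinitePresentation A D]
    (f : C →ₗ[A] Q) (g : Q →ₗ[A] D) (hg : Surjective g) (hex : Exact f g)
    (h : ∀ x : PrimeSpectrum A, fiberRank Q x = fiberRank C x + fiberRank D x) :
    Module.Projective A C ∧ Module.Projective A D ∧ Injective f := by
  have key : ∀ p : PrimeSpectrum A, Module.Free (Localization.AtPrime p.asIdeal)
      (Localization.AtPrime p.asIdeal ⊗[A] C) ∧ Module.Free (Localization.AtPrime p.asIdeal)
      (Localization.AtPrime p.asIdeal ⊗[A] D) ∧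
      Injective (f.baseChange (Localization.AtPrime p.asIdeal)) := by
    intro p
    let R := Localization.AtPrime p.asIdeal
    let f' : R ⊗[A] C →ₗ[R] R ⊗[A] Q := f.baseChange R
    let g' : R ⊗[A] Q →ₗ[R] R ⊗[A] D := g.baseChange R
    have hs' : Surjective g' := by
      change Surjective (g.baseChange R)
      rw [LinearMap.baseChange_eq_ltensor]; exact g.lTensor_surjective R hg
    have he' : Exact f' g' := by
      intro y
      change (g.baseChange R) y = 0 ↔ y ∈ Set.range (f.baseChange R)
      rw [LinearMap.baseChange_eq_ltensor, LinearMap.baseChange_eq_ltensor]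
      exact lTensor_exact R hex hg y
    have hfree : Module.Free R (R ⊗[A] Q) := Module.free_of_flat_of_isLocalRing
    have hinj : Injective (f'.lTensor (IsLocalRing.ResidueField R)) := by
      apply Groth.Agent.Ega3B.SplitCx.lTensor_injective_of_fiberRank f' g' hs' he'
      let κ := IsLocalRing.ResidueField R
      have e : ∀ (M : Type u) [AddCommGroup M] [Module A M],
          Module.finrank κ (κ ⊗[R] (R ⊗[A] M)) = fiberRank M p := fun M _ _ =>
        (AlgebraTensorModule.cancelBaseChange A R κ κ M).finrank_eq
      rw [e, e, e]
      exact h p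
    obtain ⟨l', hl⟩ := exists_retraction_local f' hinj
    refine ⟨?_, Module.free_of_lTensor_residueField_injective f' g' hs' he' hinj, ?_⟩
    · have : Module.Projective R (R ⊗[A] C) := Module.Projective.of_split f' l' hl
      exact Module.free_of_flat_of_isLocalRing
    · exact LeftInverse.injective (g := l') fun x => LinearMap.congr_fun hl x
  refine ⟨?_, ?_, ?_⟩
  · rw [← Module.freeLocus_eq_univ_iff, Set.eq_univ_iff_forall]
    intro p
    rw [Module.mem_freeLocus_iff_tensor p (Localization.AtPrime p.asIdeal)]
    exact (key p).1
  · rw [← Module.freeLocus_eq_univ_iff, Set.eq_univ_iff_forall]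
    intro p
    rw [Module.mem_freeLocus_iff_tensor p (Localization.AtPrime p.asIdeal)]
    exact (key p).2.1
  · rw [injective_iff_map_eq_zero]
    intro c hc
    by_contra hne
    have h0 : (LinearMap.toSpanSingleton A C c).ker ≠ ⊤ := by
      intro h0
      apply hne
      have h1 : (1 : A) ∈ (LinearMap.toSpanSingleton A C c).ker := h0 ▸ Submodule.mem_top
      simpa using h1
    obtain ⟨m, hm, hle⟩ := Ideal.exists_le_maximal _ h0
    have h1 := (key ⟨m, hm.isPrime⟩).2.2
    have h2 : ((1 : Localization.AtPrime m) ⊗ₜ[A] c) = 0 := by
      apply h1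
      rw [map_zero]
      change (1 : Localization.AtPrime m) ⊗ₜ[A] (f c) = 0
      rw [hc, TensorProduct.tmul_zero]
    have h3 := (IsLocalizedModule.eq_zero_iff m.primeCompl
      (TensorProduct.mk A (Localization.AtPrime m) C 1)).mp h2
    obtain ⟨s, hs⟩ := h3
    exact s.2 (hle (LinearMap.mem_ker.mpr hs))

end Modules

section Complexes

variable {A : Type u} [CommRing A] (P : ChainComplex (ModuleCat.{u} A) ℤ)
  (hP : ∀ i, Module.Finite A (P.X i) ∧ Module.Projective A (P.X i))

include hP in
/-- the cokernels are finitely presented -/
theorem finitePresentation_opcycles (i : ℤ) : Module.FinitePresentation A (P.opcycles i) := by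
  have h1 := (hP i).1
  have h2 := (hP i).2
  have h3 := (hP (i + 1)).1
  have : Module.FinitePresentation A (P.X i) := Module.finitePresentation_of_projective _ _
  have hex := exact_d_pOpcycles P (i + 1) i ((ComplexShape.down ℤ).prev_eq' (by simp))
  refine Module.finitePresentation_of_surjective (P.pOpcycles i).hom (pOpcycles_surjective P i) ?_
  rw [LinearMap.exact_iff.1 hex]
  rw [LinearMap.range_eq_map]
  exact (Module.Finite.fg_top).map _

include hP in
/-- Vanishing of the fibre homology in degree `i` at all points makes the two neighbouring cokernels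
projective and the homology in degree `i` zero. -/
theorem projective_opcycles_of_dRank_eq_zero (i j : ℤ) (hij : j + 1 = i)
    (h : ∀ x, CohIII.dRank P i x = 0) :
    Module.Projective A (P.opcycles i) ∧ Module.Projective A (P.opcycles j) ∧
      Injective (P.fromOpcycles i j).hom := by
  have hrel : (ComplexShape.down ℤ).Rel i j := hij
  have := (hP i).1
  have := (hP j).1
  have := (hP j).2
  have := finitePresentation_opcycles P hP i
  have := finitePresentation_opcycles P hP j
  refine projective_of_fiberRank_add (P.fromOpcycles i j).hom (P.pOpcycles j).hom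
    (pOpcycles_surjective P j) (exact_fromOpcycles_pOpcycles P i j
      ((ComplexShape.down ℤ).prev_eq' hrel)) (fun x => ?_)
  have := dRank_add P i j hrel x
  rw [h x] at this
  omega

include hP in
theorem isZero_homology_of_dRank_eq_zero (i : ℤ) (h : ∀ x, CohIII.dRank P i x = 0) :
    IsZero (P.homology i) := by
  obtain ⟨-, -, h3⟩ := projective_opcycles_of_dRank_eq_zero P hP i (i - 1) (by ring) h
  have hrel : (ComplexShape.down ℤ).Rel i (i - 1) := by simp
  have h4 := exact_homologyι_fromOpcycles P i (i - 1) ((ComplexShape.down ℤ).next_eq' hrel)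
  have : Subsingleton (P.homology i) := by
    refine ⟨fun a b => ?_⟩
    apply homologyι_injective P i
    apply h3
    have h5 := (h4 ((P.homologyι i).hom a)).mpr ⟨a, rfl⟩
    have h6 := (h4 ((P.homologyι i).hom b)).mpr ⟨b, rfl⟩
    rw [h5, h6]
  exact ModuleCat.isZero_of_subsingleton _

include hP in
/-- If the cokernels `opcycles i` and `opcycles (i-1)` are projective then the homology in degree `i` is
finite projective and its rank is the fibre rank. -/
theorem finite_projective_homology (i j : ℤ) (hij : j + 1 = i)
    (h1 : Module.Projective A (P.opcycles i)) (h2 : Module.Projective A (P.opcycles j)) :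
    Module.Finite A (P.homology i) ∧ Module.Projective A (P.homology i) ∧
      ∀ x, Module.rankAtStalk (P.homology i) x = CohIII.dRank P i x := by
  have hrel : (ComplexShape.down ℤ).Rel i j := hij
  have := (hP i).1
  have := (hP j).1
  have := (hP j).2
  have f1 := finitePresentation_opcycles P hP i
  have f2 := finitePresentation_opcycles P hP j
  -- the image of `opcycles i → P_j`
  have hex2 := exact_fromOpcycles_pOpcycles P i j ((ComplexShape.down ℤ).prev_eq' hrel)
  obtain ⟨s, hs⟩ := Module.projective_lifting_property (P.pOpcycles j).hom LinearMap.id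
    (pOpcycles_surjective P j)
  have hker : LinearMap.range (P.fromOpcycles i j).hom = LinearMap.ker (P.pOpcycles j).hom :=
    (LinearMap.exact_iff.1 hex2).symm
  let r : P.X j →ₗ[A] LinearMap.range (P.fromOpcycles i j).hom :=
    LinearMap.codRestrict _ (LinearMap.id - s ∘ₗ (P.pOpcycles j).hom) (by
      intro x
      rw [hker, LinearMap.mem_ker]
      have := LinearMap.congr_fun hs ((P.pOpcycles j).hom x)
      simp only [LinearMap.coe_comp, Function.comp_apply, LinearMap.id_coe, id_eq] at this
      simp only [LinearMap.sub_apply, LinearMap.id_coe, id_eq, LinearMap.coe_comp, Function.comp_apply,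
        map_sub, this, sub_self])
  have hr : r ∘ₗ (LinearMap.range (P.fromOpcycles i j).hom).subtype = LinearMap.id := by
    ext x
    have hx : (P.pOpcycles j).hom x.1 = 0 := LinearMap.mem_ker.mp (hker ▸ x.2)
    simp [r, hx]
  have hIp : Module.Projective A (LinearMap.range (P.fromOpcycles i j).hom) :=
    Module.Projective.of_split _ r hr
  have hIf : Module.Finite A (LinearMap.range (P.fromOpcycles i j).hom) := inferInstance
  -- splitting of `opcycles i → I`
  have hsI := LinearMap.surjective_rangeRestrict (P.fromOpcycles i j).hom
  obtain ⟨t, ht⟩ := Module.projective_lifting_property (P.fromOpcycles i j).hom.rangeRestrict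
    LinearMap.id hsI
  have hex1 : Exact (P.homologyι i).hom (P.fromOpcycles i j).hom.rangeRestrict := by
    rw [LinearMap.exact_iff, LinearMap.ker_rangeRestrict, ← LinearMap.exact_iff]
    exact exact_homologyι_fromOpcycles P i j ((ComplexShape.down ℤ).next_eq' hrel)
  obtain ⟨e, he⟩ := hex1.splitSurjectiveEquiv (homologyι_injective P i) ⟨t, ht⟩
  have hHp : Module.Projective A (P.homology i) := by
    have : Module.Projective A (P.homology i × LinearMap.range (P.fromOpcycles i j).hom) :=
      Module.Projective.of_equiv e
    exact Module.Projective.of_split (LinearMap.inl A _ _)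
      (LinearMap.fst A (P.homology i) (LinearMap.range (P.fromOpcycles i j).hom)) (by ext; simp)
  have hHf : Module.Finite A (P.homology i) := by
    have : Module.Finite A (P.homology i × LinearMap.range (P.fromOpcycles i j).hom) :=
      Module.Finite.equiv e
    exact Module.Finite.of_surjective
      (LinearMap.fst A (P.homology i) (LinearMap.range (P.fromOpcycles i j).hom)) LinearMap.fst_surjective
  refine ⟨hHf, hHp, fun x => ?_⟩
  have e1 := Groth.Agent.Ega3B.SplitCx.rankAtStalk_add (P.homologyι i).hom
    (P.fromOpcycles i j).hom.rangeRestrict (homologyι_injective P i) hex1 hsI x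
  have e2 := Groth.Agent.Ega3B.SplitCx.rankAtStalk_add
    (LinearMap.range (P.fromOpcycles i j).hom).subtype (P.pOpcycles j).hom
    Subtype.val_injective (by
      rw [LinearMap.exact_iff, Submodule.range_subtype, ← LinearMap.exact_iff]
      exact hex2) (pOpcycles_surjective P j) x
  have e3 := dRank_add P i j hrel x
  rw [fiberRank_eq_rankAtStalk, fiberRank_eq_rankAtStalk, fiberRank_eq_rankAtStalk] at e3
  omega

end Complexes

end K54.CxAlg
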