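import Groth.Agent.Coherent.K54.PushSec
import Groth.Agent.Coherent.K55.KerAlg
import Groth.Agent.Ega3B.LocFree
import Groth.Agent.Ega3B.EtPoint
import Groth.Agent.PerfA.PerfLocal
import Groth.Agent.PerfA.QCohEpi
import Groth.Agent.CohqA.RelCoh2
import Groth.Agent.Models2.FPCoh

/-!
# The direct image of a flat family: base change and local freeness in degree 0

* `mem_freeLocus_of_epi`: the base change map of the fibre at `y` is epi, so `K.O 1` is free at `y`.
* `exists_nhd`: if `K.O 1` is free at `y`, then `π_* F` is free near `y` and commutes with base change.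
-/

set_option autoImplicit false
universe u

open AlgebraicGeometry CategoryTheory CategoryTheory.Limits Scheme.Modules TensorProduct

namespace K54.PushBC

open Groth.Agent Groth.Agent.CohqA.PullbackUniv Groth.Agent.CohqA.PullbackAffine
  Groth.Agent.CohqA.PullbackSections Groth.Agent.CohqA.AffineBaseChange
  Groth.Agent.CohqA.BaseChangeMod Groth.Agent.CohqA.PullbackQCoh Groth.Agent.Ega3B K55 K55.Pack K55.KerAlg
  K54.PushSec

section Alg

variable {A : Type u} [CommRing A]

/-- Transport of a base change along linear equivalences. -/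
theorem isBC_of_equiv {B : Type u} [CommRing B] [Algebra A B] {M M' N N' : Type u} [AddCommGroup M]
    [Module A M] [AddCommGroup M'] [Module A M'] [AddCommGroup N] [Module A N] [Module B N]
    [IsScalarTower A B N] [AddCommGroup N'] [Module B N'] (g : M →ₗ[A] N) (hg : IsBaseChange B g)
    (t₀ : M' ≃ₗ[A] M) (t₁ : N' ≃ₗ[B] N) (φ : M' →+ N') (h : ∀ x, t₁ (φ x) = g (t₀ x)) :
    IsBC (algebraMap A B) φ := by
  have h1 := (isBC_iff_isBaseChange g).2 hg
  have h2 : IsBC (RingHom.id A) t₀.toAddEquiv.toAddMonoidHom :=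
    IsBC.of_bijective (RingHom.id A) Function.bijective_id _ t₀.bijective (fun r x => t₀.map_smul r x)
  have h3 := h2.comp h1
  exact h3.of_equiv t₁.symm fun x => by
    change t₁.symm (g (t₀ x)) = φ x
    rw [← h, LinearEquiv.symm_apply_apply]

theorem span_of_isBC {B : Type u} [CommRing B] {φ : A →+* B} {M N : Type u} [AddCommGroup M] [Module A M]
    [AddCommGroup N] [Module B N] {f : M →+ N} (h : IsBC φ f) : Submodule.span B (Set.range f) = ⊤ := by
  let S := Submodule.span B (Set.range f)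
  have h1 : S.mkQ = 0 := h.hom_ext fun x => by
    rw [LinearMap.zero_apply, Submodule.mkQ_apply, Submodule.Quotient.mk_eq_zero]
    exact Submodule.subset_span ⟨x, rfl⟩
  rw [← Submodule.ker_mkQ (Submodule.span B (Set.range f))]
  change LinearMap.ker S.mkQ = ⊤
  rw [h1, LinearMap.ker_zero]

variable {O Q : Type u} [AddCommGroup O] [Module A O] [AddCommGroup Q] [Module A Q] (v : O →ₗ[A] Q)

theorem can_surjective_congr {B B' : Type u} [CommRing B] [Algebra A B] [CommRing B'] [Algebra A B']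
    (ψ : B ≃ₗ[A] B') (h : Function.Surjective (can v B)) : Function.Surjective (can v B') := by
  rw [can_surjective_iff] at h ⊢
  intro x hx
  let x' : B ⊗[A] O := ψ.symm.toLinearMap.rTensor O x
  have hx' : x' ∈ LinearMap.ker (v.lTensor B) := by
    rw [LinearMap.mem_ker]
    change v.lTensor B (ψ.symm.toLinearMap.rTensor O x) = 0
    rw [← LinearMap.comp_apply, LinearMap.lTensor_comp_rTensor, ← LinearMap.rTensor_comp_lTensor,
      LinearMap.comp_apply, LinearMap.mem_ker.1 hx, map_zero]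
  obtain ⟨y, hy⟩ := h hx'
  refine ⟨ψ.toLinearMap.rTensor _ y, ?_⟩
  rw [← LinearMap.comp_apply, LinearMap.lTensor_comp_rTensor, ← LinearMap.rTensor_comp_lTensor,
    LinearMap.comp_apply, hy]
  change ψ.toLinearMap.rTensor O (ψ.symm.toLinearMap.rTensor O x) = x
  rw [← LinearMap.comp_apply, ← LinearMap.rTensor_comp]
  have : ψ.toLinearMap ∘ₗ ψ.symm.toLinearMap = LinearMap.id := by
    ext z
    exact ψ.apply_symm_apply z
  rw [this, LinearMap.rTensor_id]
  rfl

/-- A finitely presented module which is free at all points of the image of `Spec B`. -/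
theorem projective_baseChange {C : Type u} [AddCommGroup C] [Module A C] [Module.FinitePresentation A C]
    (B : Type u) [CommRing B] [Algebra A B]
    (h : ∀ p : PrimeSpectrum B, PrimeSpectrum.comap (algebraMap A B) p ∈ Module.freeLocus A C) :
    Module.Projective B (B ⊗[A] C) := by
  rw [← Module.freeLocus_eq_univ_iff]
  exact Set.eq_univ_iff_forall.2 fun p => Module.comap_freeLocus_le (h p)

variable (K : CxData A)

/-- `H^0_B` is finite projective if `K.O 1` is free over the image of `Spec B`. -/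
theorem finite_projective_HB (B : Type u) [CommRing B] [Algebra A B]
    (h : ∀ p : PrimeSpectrum B, PrimeSpectrum.comap (algebraMap A B) p ∈ Module.freeLocus A (K.O 1)) :
    Module.Finite B (K.HB 0 B) ∧ Module.Projective B (K.HB 0 B) := by
  have h1 : Module.Projective B (B ⊗[A] K.O 1) := projective_baseChange B h
  have hex : Function.Exact ((K.u 0).baseChange B) ((K.π 0).baseChange B) := by
    rw [LinearMap.baseChange_eq_ltensor, LinearMap.baseChange_eq_ltensor]
    exact lTensor_exact B (K.exact 0) (K.surj 0)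
  have hπ : Function.Surjective ((K.π 0).baseChange B) := by
    rw [LinearMap.baseChange_eq_ltensor]
    exact LinearMap.lTensor_surjective B (K.surj 0)
  have := K.projO
  refine ⟨finite_ker hex hπ, (projective_ker_iff hex hπ).2 inferInstance⟩

end Alg

section Epi

variable {X Y : Scheme.{u}} (π : X ⟶ Y) (F : X.Modules)

/-- If the base change map is an epimorphism then the values of the section map generate. -/
theorem span_secMap_of_epi {Y Z : Scheme.{u}} (α : Z ⟶ Y) {M : Y.Modules} {N : Z.Modules} (hM : Coh.IsQCoh M)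
    (hN : Coh.IsQCoh N) (a : M ⟶ (pushforward α).obj N)
    (hepi : Epi (((pullbackPushforwardAdjunction α).homEquiv M N).symm a)) {V : Y.Opens}
    (hV : IsAffineOpen V) {V' : Z.Opens} (hV' : IsAffineOpen V') (e : V' ≤ α ⁻¹ᵁ V) :
    Submodule.span Γ(Z, V') (Set.range (secMap α a V V' e)) = ⊤ := by
  have hM' : M.IsQuasicoherent := hM
  let c : (Scheme.Modules.pullback α).obj M ⟶ N := ((pullbackPushforwardAdjunction α).homEquiv M N).symm a
  have hc : Epi c := hepi
  have ha : a = pbUnit α M ≫ (pushforward α).map c := by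
    have h1 : (pullbackPushforwardAdjunction α).homEquiv M N c = a := Equiv.apply_symm_apply _ _
    rw [← h1, Adjunction.homEquiv_unit]
    rfl
  have hq : Coh.IsQCoh ((Scheme.Modules.pullback α).obj M) :=
    isQuasicoherent_of_isUniv α (pbUnit α M) (isUniv_pbUnit α M)
  have hs : Function.Surjective (c.app V') := PerfA.QCohEpi.app_surjective_of_epi c hV'
  have hbc := isBC_pbSec α M hV hV' e
  have hsp := span_of_isBC hbc
  let cl : Γ((Scheme.Modules.pullback α).obj M, V') →ₗ[Γ(Z, V')] Γ(N, V') :=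
    { (c.app V').hom with map_smul' := fun r x => Hom.app_smul c r x }
  have h2 : Set.range (secMap α a V V' e) = cl '' Set.range (pbSec α M V V' e).hom := by
    have h3 : ∀ x, secMap α a V V' e x = cl ((pbSec α M V V' e).hom x) := fun x => by
      rw [ha]
      exact secMap_comp α (pbUnit α M) c V V' e x
    ext z
    constructor
    · rintro ⟨x, rfl⟩
      exact ⟨_, ⟨x, rfl⟩, (h3 x).symm⟩
    · rintro ⟨_, ⟨x, rfl⟩, rfl⟩
      exact ⟨x, h3 x⟩
  rw [h2, Submodule.span_image, hsp, Submodule.map_top, LinearMap.range_eq_top]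
  exact hs

/-- The residue field at a point of an affine open, as the sections of its spectrum. -/
theorem exists_residue_equiv {V : Y.Opens} (hV : IsAffineOpen V) (y : V)
    (e : ⊤ ≤ (Y.fromSpecResidueField y.1) ⁻¹ᵁ V) :
    ∃ σ : (hV.primeIdealOf y).asIdeal.ResidueField ≃+* Γ(Spec (Y.residueField y.1), ⊤),
      ∀ a : Γ(Y, V), σ (algebraMap Γ(Y, V) _ a) = ((Y.fromSpecResidueField y.1).appLE V ⊤ e).hom a := by
  obtain ⟨σ, hσ⟩ := FibreRank.exists_sigma hV y
  let τ : Y.residueField y.1 ≃+* Γ(Spec (Y.residueField y.1), ⊤) :=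
    (Scheme.ΓSpecIso (Y.residueField y.1)).symm.commRingCatIsoToRingEquiv
  refine ⟨σ.symm.trans τ, fun a => ?_⟩
  have h1 : σ.symm (algebraMap Γ(Y, V) _ a) = (Y.evaluation V y.1 y.2).hom a := by
    rw [RingEquiv.symm_apply_eq, hσ]
  change τ (σ.symm (algebraMap Γ(Y, V) _ a)) = _
  rw [h1]
  have h2 : Spec.map ((Y.fromSpecResidueField y.1).appLE V ⊤ e) =
      Spec.map (Y.evaluation V y.1 y.2 ≫ (Scheme.ΓSpecIso (Y.residueField y.1)).inv) := by
    rw [← cancel_mono hV.fromSpec, hV.SpecMap_appLE_fromSpec _ (isAffineOpen_top _) e,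
      IsAffineOpen.fromSpec_top, EtPoint.fromSpecResidueField_eq hV y, Spec.map_comp, Category.assoc,
      Scheme.isoSpec_Spec_inv]
  have h3 := Spec.map_injective h2
  exact congr($(h3.symm).hom a)

/-- Epimorphic base change map: the algebraic comparison map is surjective. -/
theorem surjective_can_of_epi [QuasiCompact π] [QuasiSeparated π] (hF : Coh.IsQCoh F) {V : Y.Opens}
    (hV : IsAffineOpen V) (K : CxData Γ(Y, V)) (hK : SecData π F K) {X' Z : Scheme.{u}} (f : X' ⟶ X)
    (ζ : X' ⟶ Z) (α : Z ⟶ Y) (h : IsPullback f ζ π α) (V' : Z.Opens) (hV' : IsAffineOpen V')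
    (e : V' ≤ α ⁻¹ᵁ V)
    (hy : Epi (((pullbackPushforwardAdjunction α).homEquiv ((pushforward π).obj F)
      ((pushforward ζ).obj ((Scheme.Modules.pullback f).obj F))).symm (pushSquare π α f ζ h.w (pbUnit f F)))) :
    letI := (α.appLE V V' e).hom.toAlgebra
    Function.Surjective (can (K.u 0) Γ(Z, V')) := by
  obtain ⟨t₀, ht⟩ := hK
  let := (α.appLE V V' e).hom.toAlgebra
  obtain ⟨t₁, ht₁⟩ := ht f ζ α h V' hV' e
  have hM : Coh.IsQCoh ((pushforward π).obj F) := Ega1.QcqsPush.isQCoh_pushforward π F hF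
  have hF' : F.IsQuasicoherent := hF
  have i1 : QuasiCompact ζ := MorphismProperty.of_isPullback h inferInstance
  have i2 : QuasiSeparated ζ := MorphismProperty.of_isPullback h inferInstance
  have hN : Coh.IsQCoh ((pushforward ζ).obj ((Scheme.Modules.pullback f).obj F)) :=
    Ega1.QcqsPush.isQCoh_pushforward _ _
      (isQuasicoherent_of_isUniv f (pbUnit f F) (isUniv_pbUnit f F))
  have hsp := span_secMap_of_epi α hM hN (pushSquare π α f ζ h.w (pbUnit f F)) hy hV hV' e
  rw [can_surjective_iff_span]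
  have h2 : Set.range (kres (K.u 0) Γ(Z, V')) = t₁.toLinearMap ''
      Set.range (secMap α (pushSquare π α f ζ h.w (pbUnit f F)) V V' e) := by
    ext z
    constructor
    · rintro ⟨x, rfl⟩
      exact ⟨_, ⟨t₀.symm x, rfl⟩, (ht₁ (t₀.symm x)).trans (by rw [LinearEquiv.apply_symm_apply])⟩
    · rintro ⟨_, ⟨x, rfl⟩, rfl⟩
      exact ⟨t₀ x, (ht₁ x).symm⟩
  rw [h2, Submodule.span_image, hsp, Submodule.map_top, LinearMap.range_eq_top]
  exact t₁.surjective

/-- If the base change map of the fibre at `y` is an epimorphism then `K.O 1` is free at `y`. -/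
theorem mem_freeLocus_of_epi [QuasiCompact π] [QuasiSeparated π] (hF : Coh.IsQCoh F) {V : Y.Opens}
    (hV : IsAffineOpen V) (K : CxData Γ(Y, V)) (hK : SecData π F K) (y : V)
    (hy : Epi (((pullbackPushforwardAdjunction (Y.fromSpecResidueField y.1)).homEquiv ((pushforward π).obj F)
            ((pushforward (π.fiberToSpecResidueField y.1)).obj ((Scheme.Modules.pullback (π.fiberι y.1)).obj F))).symm
          ((pushforward π).map ((pullbackPushforwardAdjunction (π.fiberι y.1)).unit.app F) ≫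
            (pushforwardComp (π.fiberι y.1) π).hom.app ((Scheme.Modules.pullback (π.fiberι y.1)).obj F) ≫
            (pushforwardCongr (π.fiber_fac y.1)).hom.app ((Scheme.Modules.pullback (π.fiberι y.1)).obj F) ≫
            (pushforwardComp (π.fiberToSpecResidueField y.1) (Y.fromSpecResidueField y.1)).inv.app
              ((Scheme.Modules.pullback (π.fiberι y.1)).obj F)))) :
    hV.primeIdealOf y ∈ Module.freeLocus Γ(Y, V) (K.O 1) := by
  have e : ⊤ ≤ (Y.fromSpecResidueField y.1) ⁻¹ᵁ V := by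
    intro z _
    have : (Y.fromSpecResidueField y.1) z = y.1 := Scheme.fromSpecResidueField_apply y.1 z
    change (Y.fromSpecResidueField y.1) z ∈ V
    rw [this]
    exact y.2
  have hs := surjective_can_of_epi π F hF hV K hK (π.fiberι y.1) (π.fiberToSpecResidueField y.1)
    (Y.fromSpecResidueField y.1) (IsPullback.of_hasPullback _ _) ⊤ (isAffineOpen_top _) e hy
  let := ((Y.fromSpecResidueField y.1).appLE V ⊤ e).hom.toAlgebra
  obtain ⟨σ, hσ⟩ := exists_residue_equiv hV y e
  refine mem_freeLocus_of_surjective_can (K.exact 0) (K.surj 0) (hV.primeIdealOf y)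
    (can_surjective_congr (K.u 0) (B := Γ(Spec (Y.residueField y.1), ⊤))
      (AlgEquiv.ofRingEquiv (f := σ) hσ).symm.toLinearEquiv hs)

end Epi

section Nhd

variable {X Y : Scheme.{u}} (π : X ⟶ Y) (F : X.Modules)

/-- A principal neighbourhood inside the free locus. -/
theorem exists_basic {V : Y.Opens} (hV : IsAffineOpen V) {C : Type u} [AddCommGroup C] [Module Γ(Y, V) C]
    [Module.FinitePresentation Γ(Y, V) C] (y : V) (hy : hV.primeIdealOf y ∈ Module.freeLocus Γ(Y, V) C) :
    ∃ g : Γ(Y, V), y.1 ∈ Y.basicOpen g ∧ ∀ q : PrimeSpectrum Γ(Y, V), g ∉ q.asIdeal →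
      q ∈ Module.freeLocus Γ(Y, V) C := by
  obtain ⟨_, ⟨g, rfl⟩, hyg, hW⟩ := PrimeSpectrum.isTopologicalBasis_basic_opens.exists_subset_of_mem_open hy
    Module.isOpen_freeLocus
  refine ⟨g, ?_, fun q hq => hW hq⟩
  have h1 : hV.primeIdealOf y ∈ hV.fromSpec ⁻¹ᵁ Y.basicOpen g := by
    rw [hV.fromSpec_preimage_basicOpen]
    exact hyg
  have h2 : hV.fromSpec (hV.primeIdealOf y) ∈ Y.basicOpen g := h1
  rwa [hV.fromSpec_primeIdealOf] at h2

/-- A prime of the sections over an open inside `D(g)` does not contain `g`. -/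
theorem notMem_comap {Z : Scheme.{u}} (α : Z ⟶ Y) {V : Y.Opens} (g : Γ(Y, V)) {V' : Z.Opens}
    (e : V' ≤ α ⁻¹ᵁ V) (h : V' ≤ α ⁻¹ᵁ (Y.basicOpen g)) (q : PrimeSpectrum Γ(Z, V')) :
    g ∉ (PrimeSpectrum.comap (α.appLE V V' e).hom q).asIdeal := by
  have h1 : IsUnit ((α.appLE V V' e).hom g) := by
    have h2 : (α.appLE V V' e).hom g = (α.appLE (Y.basicOpen g) V' h).hom
        ((Y.presheaf.map (homOfLE (Y.basicOpen_le g)).op).hom g) := by
      have h3 : Y.presheaf.map (homOfLE (Y.basicOpen_le g)).op ≫ α.appLE (Y.basicOpen g) V' h =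
        α.appLE V V' e := Scheme.Hom.map_appLE ..
      rw [← h3]
      rfl
    rw [h2]
    exact (RingedSpace.isUnit_res_basicOpen _ g).map _
  intro hg
  exact q.2.ne_top (Ideal.eq_top_of_isUnit_mem _ hg h1)

/-- Base change for affine opens mapping into `D(g)`. -/
theorem isBaseChange_res {V : Y.Opens} (hV : IsAffineOpen V) (K : CxData Γ(Y, V)) (g : Γ(Y, V))
    (hg : ∀ q : PrimeSpectrum Γ(Y, V), g ∉ q.asIdeal → q ∈ Module.freeLocus Γ(Y, V) (K.O 1))
    {Z : Scheme.{u}} (α : Z ⟶ Y) {V' : Z.Opens} (e : V' ≤ α ⁻¹ᵁ V) (h : V' ≤ α ⁻¹ᵁ (Y.basicOpen g)) :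
    letI := (α.appLE V V' e).hom.toAlgebra
    IsBaseChange Γ(Z, V') (K.res 0 Γ(Z, V')) := by
  let := (α.appLE V V' e).hom.toAlgebra
  let i2 : Algebra Γ(Y, Y.basicOpen g) Γ(Z, V') := (α.appLE (Y.basicOpen g) V' h).hom.toAlgebra
  have i3 : IsScalarTower Γ(Y, V) Γ(Y, Y.basicOpen g) Γ(Z, V') := IsScalarTower.of_algebraMap_eq fun a => by
    have h3 : Y.presheaf.map (homOfLE (Y.basicOpen_le g)).op ≫ α.appLE (Y.basicOpen g) V' h =
        α.appLE V V' e := Scheme.Hom.map_appLE ..
    exact congr($(h3.symm).hom a)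
  have i4 : IsLocalization.Away g Γ(Y, Y.basicOpen g) := hV.isLocalization_basicOpen g
  have i5 : Module.Flat Γ(Y, V) Γ(Y, Y.basicOpen g) := IsLocalization.flat _ (Submonoid.powers g)
  have i6 : Module.Projective Γ(Y, Y.basicOpen g) (Γ(Y, Y.basicOpen g) ⊗[Γ(Y, V)] K.O (0 + 1)) :=
    projective_baseChange _ fun q => hg _ (fun hq => q.2.ne_top
      (Ideal.eq_top_of_isUnit_mem _ hq (IsLocalization.Away.algebraMap_isUnit g)))
  exact isBaseChange_kres_of_tower Γ(Z, V') Γ(Y, Y.basicOpen g) (K.exact 0) (K.surj 0)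
    (@Module.Flat.of_projective _ _ _ _ _ i6)

/-- The section map is a base change if `kres` is. -/
theorem isBC_of_kres {A : Type u} [CommRing A] {B : Type u} [CommRing B] [Algebra A B] {O Q : Type u}
    [AddCommGroup O] [Module A O] [AddCommGroup Q] [Module A Q] (v : O →ₗ[A] Q) {M N : Type u}
    [AddCommGroup M] [Module A M] [AddCommGroup N] [Module B N] (s : M →+ N) (t₀ : M ≃ₗ[A] LinearMap.ker v)
    (t₁ : N ≃ₗ[B] LinearMap.ker (v.baseChange B)) (ht : ∀ x, t₁ (s x) = kres v B (t₀ x))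
    (hb : IsBaseChange B (kres v B)) : IsBC (algebraMap A B) s := by
  let i1 : AddCommGroup (LinearMap.ker (v.baseChange B)) := inferInstance
  let i2 : AddCommGroup (LinearMap.ker v) := inferInstance
  refine @isBC_of_equiv A _ B _ _ (LinearMap.ker v) M (LinearMap.ker (v.baseChange B)) N i2 inferInstance
    inferInstance inferInstance i1 inferInstance inferInstance inferInstance inferInstance inferInstance
    (kres v B) hb t₀ t₁ s ht

/-- The section map is a base change if `K.res 0` is. -/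
theorem isBC_of_res {A : Type u} [CommRing A] {B : Type u} [CommRing B] [Algebra A B] (K : CxData A)
    {M N : Type u} [AddCommGroup M] [Module A M] [AddCommGroup N] [Module B N] (s : M →+ N)
    (t₀ : M ≃ₗ[A] K.H 0) (t₁ : N ≃ₗ[B] K.HB 0 B) (ht : ∀ x, t₁ (s x) = K.res 0 B (t₀ x))
    (hb : IsBaseChange B (K.res 0 B)) : IsBC (algebraMap A B) s :=
  isBC_of_kres (K.u 0) s t₀ t₁ ht hb

/-- The section map is a base change if `K.res 0` is. -/
theorem isBC_of_res' {A B : Type u} [CommRing A] [CommRing B] (φ : A →+* B) (K : CxData A) {M N : Type u}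
    [AddCommGroup M] [Module A M] [AddCommGroup N] [Module B N] (s : M →+ N) (t₀ : M ≃ₗ[A] K.H 0)
    (ht : letI := φ.toAlgebra; ∃ t₁ : N ≃ₗ[B] K.HB 0 B, ∀ x, t₁ (s x) = K.res 0 B (t₀ x))
    (hb : letI := φ.toAlgebra; IsBaseChange B (K.res 0 B)) : IsBC φ s := by
  obtain ⟨t₁, ht₁⟩ := ht
  exact @isBC_of_res A _ B _ φ.toAlgebra K M N _ _ _ _ s t₀ t₁ ht₁ hb

/-- Base change near a point of the free locus. -/
theorem isIso_of_basic [QuasiCompact π] [QuasiSeparated π] (hF : Coh.IsQCoh F) {V : Y.Opens}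
    (hV : IsAffineOpen V) (K : CxData Γ(Y, V)) (hK : SecData π F K) (g : Γ(Y, V))
    (hg : ∀ q : PrimeSpectrum Γ(Y, V), g ∉ q.asIdeal → q ∈ Module.freeLocus Γ(Y, V) (K.O 1))
    {X' Z : Scheme.{u}} (f : X' ⟶ X) (ζ : X' ⟶ Z) (α : Z ⟶ Y) (h : IsPullback f ζ π α)
    (hz : ∀ z : Z, α z ∈ Y.basicOpen g) : IsUniv α (pushSquare π α f ζ h.w (pbUnit f F)) := by
  obtain ⟨t₀, ht⟩ := hK
  have hM : ((pushforward π).obj F).IsQuasicoherent := Ega1.QcqsPush.isQCoh_pushforward π F hF
  have hF' : F.IsQuasicoherent := hF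
  have i1 : QuasiCompact ζ := MorphismProperty.of_isPullback h inferInstance
  have i2 : QuasiSeparated ζ := MorphismProperty.of_isPullback h inferInstance
  have hN : ((pushforward ζ).obj ((Scheme.Modules.pullback f).obj F)).IsQuasicoherent :=
    Ega1.QcqsPush.isQCoh_pushforward _ _
      (isQuasicoherent_of_isUniv f (pbUnit f F) (isUniv_pbUnit f F))
  refine isUniv_of_isBC_cover α _ fun z => ?_
  obtain ⟨_, ⟨V', hV', rfl⟩, hzV, hVU⟩ := Z.isBasis_affineOpens.exists_subset_of_mem_open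
    (show z ∈ (α ⁻¹ᵁ Y.basicOpen g : Set Z) from hz z) (α ⁻¹ᵁ Y.basicOpen g).isOpen
  have hle : V' ≤ α ⁻¹ᵁ (Y.basicOpen g) := hVU
  have e : V' ≤ α ⁻¹ᵁ V := hle.trans (α.preimage_mono (Y.basicOpen_le g))
  have hb := isBaseChange_res hV K g hg α e hle
  have ht' := ht f ζ α h V' hV' e
  refine ⟨V, V', hV, hV', e, hzV, ?_⟩
  exact isBC_of_res' (α.appLE V V' e).hom K _ t₀ ht' hb

/-- Finite projective sections near a point of the free locus. -/
theorem finite_projective_of_basic [QuasiCompact π] [QuasiSeparated π] {V : Y.Opens}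
    (hV : IsAffineOpen V) (K : CxData Γ(Y, V)) (hK : SecData π F K) (g : Γ(Y, V))
    (hg : ∀ q : PrimeSpectrum Γ(Y, V), g ∉ q.asIdeal → q ∈ Module.freeLocus Γ(Y, V) (K.O 1)) :
    Module.Finite Γ(Y, Y.basicOpen g) Γ((pushforward π).obj F, Y.basicOpen g) ∧
      Module.Projective Γ(Y, Y.basicOpen g) Γ((pushforward π).obj F, Y.basicOpen g) := by
  obtain ⟨t₀, ht⟩ := hK
  have e : Y.basicOpen g ≤ (𝟙 Y : Y ⟶ Y) ⁻¹ᵁ V := Y.basicOpen_le g
  let := ((𝟙 Y : Y ⟶ Y).appLE V (Y.basicOpen g) e).hom.toAlgebra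
  have h : IsPullback (𝟙 X) π π (𝟙 Y) := IsPullback.of_horiz_isIso ⟨by simp⟩
  obtain ⟨t₁, -⟩ := ht (𝟙 X) π (𝟙 Y) h (Y.basicOpen g) (hV.basicOpen g) e
  obtain ⟨h1, h2⟩ := finite_projective_HB K Γ(Y, Y.basicOpen g)
    (fun q => hg _ (notMem_comap (𝟙 Y) g e le_rfl q))
  let ε : (pushforward π).obj ((Scheme.Modules.pullback (𝟙 X)).obj F) ≅ (pushforward π).obj F :=
    (pushforward π).mapIso ((Scheme.Modules.pullbackId X).app F)
  let t₂ : Γ((pushforward π).obj ((Scheme.Modules.pullback (𝟙 X)).obj F), Y.basicOpen g) ≃ₗ[Γ(Y, Y.basicOpen g)]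
      Γ((pushforward π).obj F, Y.basicOpen g) :=
    { (ε.hom.app (Y.basicOpen g)).hom with
      map_smul' := fun r x => Hom.app_smul ε.hom r x
      invFun := ε.inv.app (Y.basicOpen g)
      left_inv := fun x => congr($(congrArg (fun t :
        (pushforward π).obj ((Scheme.Modules.pullback (𝟙 X)).obj F) ⟶ _ => t.app (Y.basicOpen g)) ε.hom_inv_id) x)
      right_inv := fun x => congr($(congrArg (fun t :
        (pushforward π).obj F ⟶ _ => t.app (Y.basicOpen g)) ε.inv_hom_id) x) }
  let t := t₁.symm.trans t₂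
  exact ⟨Module.Finite.equiv t, Module.Projective.of_equiv t⟩

/-- **Local freeness and base change near a point of the free locus of `K.O 1`.** -/
theorem exists_nhd [QuasiCompact π] [QuasiSeparated π] (hF : Coh.IsQCoh F) {V : Y.Opens}
    (hV : IsAffineOpen V) (K : CxData Γ(Y, V)) (hK : SecData π F K) (y : V)
    (hy : hV.primeIdealOf y ∈ Module.freeLocus Γ(Y, V) (K.O 1)) :
    ∃ U : Y.Opens, y.1 ∈ U ∧ FlatMod.IsFinLocFree (((pushforward π).obj F).restrict U.ι) ∧
      ∀ {X' Z : Scheme.{u}} (f : X' ⟶ X) (ζ : X' ⟶ Z) (α : Z ⟶ Y) (h : IsPullback f ζ π α),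
        (∀ z : Z, α z ∈ U) → IsUniv α (pushSquare π α f ζ h.w (pbUnit f F)) := by
  obtain ⟨g, hyg, hg⟩ := exists_basic hV y hy
  obtain ⟨h1, h2⟩ := finite_projective_of_basic π F hV K hK g hg
  have h3 : Module.FinitePresentation Γ(Y, Y.basicOpen g) Γ((pushforward π).obj F, Y.basicOpen g) :=
    Module.finitePresentation_of_projective _ _
  have hM : ((pushforward π).obj F).IsQuasicoherent := Ega1.QcqsPush.isQCoh_pushforward π F hF
  obtain ⟨U, hyU, hU, ⟨e⟩⟩ := Ega3B.LocFree.exists_restrict_iso_freeMod ((pushforward π).obj F)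
    (hV.basicOpen g) ⟨y.1, hyg⟩
  refine ⟨U, hyU, PerfA.PerfLocal.isFinLocFree_of_iso e.symm (PerfA.PerfLocal.isFinLocFree_freeMod _ _), ?_⟩
  intro X' Z f ζ α h hz
  exact isIso_of_basic π F hF hV K hK g hg f ζ α h fun z => hU (hz z)

end Nhd

end K54.PushBC
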