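import Groth.Agent.Coherent.K54.AcycRes
import Groth.Agent.CohDim.K685.ResolAmple
import Groth.Agent.CohqB.RelVan
import Groth.Agent.CohqB.HomSheafCoh
import Groth.Agent.Pic13.H504.Push
import Groth.Agent.Ega3B.SerreTwist
import Groth.Agent.Ega3B.RpushAbCmp
import Groth.Agent.Flat2E.FormalLift418
import Groth.Agent.S0036
import Groth.Agent.S0055

/-!
# Coherence of relative Ext sheaves

* `isCoh_of_isAmple`: `f : X ⟶ Y` proper, `Y` affine Noetherian, `X` with an ample invertible module.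
* `isCoh`: `Y` locally Noetherian, `L` relatively ample (ample over every affine open of `Y`).
-/

set_option autoImplicit false
universe u

open CategoryTheory CategoryTheory.Limits AlgebraicGeometry Opposite TopologicalSpace MonoidalCategory

namespace K54.RelCoh

open K54.RelExt K54.AcycRes K53.LfRes Groth.Agent Groth.Agent.Dcoh.MonClosed
open scoped Groth.Agent.Dcoh.MonCat

variable {X Y : Scheme.{u}}

/-- An invertible module, its inverse and its dual. -/
theorem exists_pairing {P Q : X.Modules} (hP : PicF.IsInvertible P)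
    (e : CohB1.tensorMod P Q ≅ Coh.structureModule X) :
    ∃ P' : X.Modules, Nonempty (ExactPairing P P') ∧ Nonempty (P' ≅ Q) := by
  obtain ⟨P', ⟨hp⟩⟩ := Dcoh.DualFLF.exists_exactPairing (K685.ResolAmple.isFinLocFree_of_isInvertible hP)
  refine ⟨P', ⟨hp⟩, ?_⟩
  have a1 : tensorRight P ⊣ tensorRight P' := tensorRightAdjunction P P'
  have a2 : DCoh.tensorRightMod P ⊣ DCoh.tensorRightMod Q :=
    (Flat2E.FormalLift418.twEquiv (P := P) (N := Q) (Ega2.Tens.swap Q P ≪≫ e)).toAdjunction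
  have a3 : tensorRight P' ≅ DCoh.tensorRightMod Q := Adjunction.rightAdjointUniq a1 a2
  exact ⟨(λ_ P').symm ≪≫ a3.app (𝟙_ X.Modules) ≪≫ λ_ Q⟩

/-- Relative Ext out of a finite sum of copies of an invertible module, in positive degrees. -/
theorem isZero_ext_coprod (f : X ⟶ Y) [HasInjectiveResolutions X.Modules] {P Q : X.Modules}
    (hP : PicF.IsInvertible P) (e : CohB1.tensorMod P Q ≅ Coh.structureModule X) (G : X.Modules)
    {κ : Type u} [Finite κ] (p : ℕ)
    (h : IsZero ((Coh.Rpush f p).obj (CohB1.tensorMod G Q))) :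
    IsZero (((Phi f (∐ fun _ : κ => P)).rightDerived p).obj G) := by
  obtain ⟨P', ⟨hp⟩, ⟨i⟩⟩ := exists_pairing hP e
  let E : X.Modules := ∐ fun _ : κ => P
  let E' : X.Modules := ∐ fun _ : κ => P'
  let hE : ExactPairing E E' :=
    Dcoh.DualSum.exactPairingCoprod (C := X.Modules) (fun _ : κ => P) (fun _ : κ => P')
  let _ := BraidedCategory.exactPairing_swap E E'
  obtain ⟨h1, h2, h3, h4⟩ := tensorRight_good E' E
  let b : Phi f E ≅ tensorRight E' ⋙ Scheme.Modules.pushforward f :=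
    Functor.isoWhiskerRight (homIso E E') _
  have c : ((tensorRight E' ⋙ Scheme.Modules.pushforward f).rightDerived p).obj G ≅
      ((Scheme.Modules.pushforward f).rightDerived p).obj (G ⊗ E') :=
    (CohqA.DerComp.compIso (F := tensorRight E' ⋙ Scheme.Modules.pushforward f)
      (F' := Scheme.Modules.pushforward f) (a := tensorRight E')
      (b := 𝟭 _) (Functor.rightUnitor _) p).app G
  let T : X.Modules ⥤ X.Modules := tensorLeft G
  obtain ⟨t⟩ : Nonempty (T.obj (∐ fun _ : κ => P') ≅ ∐ fun _ : κ => T.obj P') := by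
    have : T.Additive := inferInstance
    have : PreservesFiniteCoproducts T := inferInstance
    exact ⟨PreservesCoproduct.iso T _⟩
  have d : G ⊗ E' ≅ ∐ fun _ : κ => CohB1.tensorMod G Q :=
    t ≪≫ Sigma.mapIso fun _ => T.mapIso i
  have hz : IsZero (((Scheme.Modules.pushforward f).rightDerived p).obj (∐ fun _ : κ => CohB1.tensorMod G Q)) := by
    have : PreservesFiniteCoproducts ((Scheme.Modules.pushforward f).rightDerived p) := inferInstance
    exact IsZero.of_iso (Fga.HShift.isZero_coproduct _ fun _ => h) (PreservesCoproduct.iso _ _)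
  exact hz.of_iso ((derIso b p).app G ≪≫ c ≪≫
    ((Scheme.Modules.pushforward f).rightDerived p).mapIso d)


theorem isCoh_coprod [IsLocallyNoetherian X] {P : X.Modules} (hP : Coh.IsCoh P) {κ : Type u} [Finite κ] :
    Coh.IsCoh (∐ fun _ : κ => P) :=
  CycB.CohProp.isCoh_finite_coproduct _ fun _ => hP

/-- `f_* Hom(F, G)` is coherent. -/
theorem isCoh_phi (f : X ⟶ Y) [IsProper f] [IsLocallyNoetherian Y] {F G : X.Modules} (hF : Coh.IsCoh F)
    (hG : Coh.IsCoh G) : Coh.IsCoh ((Phi f F).obj G) := by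
  have : IsLocallyNoetherian X := LocallyOfFiniteType.isLocallyNoetherian f
  exact Pic13.H504.Push.isCoh_pushforward f _ (CohqB.HomSheaf.isCoh_homSheaf hF hG)

/-- A surjection from an acyclic module. -/
theorem exists_acyclic [IsAffine Y] [IsNoetherian Y] (f : X ⟶ Y) [IsProper f] [HasInjectiveResolutions X.Modules]
    {L : X.Modules} (hL : CohB1.IsAmple L) {F G : X.Modules} (hF : Coh.IsCoh F) (hG : Coh.IsCoh G) :
    ∃ (E : X.Modules) (π : E ⟶ F), Epi π ∧ Coh.IsCoh E ∧
      ∀ p, 0 < p → IsZero (((Phi f E).rightDerived p).obj G) := by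
  have : IsLocallyNoetherian X := LocallyOfFiniteType.isLocallyNoetherian f
  obtain ⟨M, hM, ⟨e⟩⟩ := Grpsch.PicGrp.exists_inverse hL.1
  have hR : IsNoetherianRing Γ(Y, ⊤) := IsLocallyNoetherian.component_noetherian ⟨⊤, isAffineOpen_top Y⟩
  obtain ⟨n₀, h₀⟩ := Ega3B.SerreTwist.exists_serre (A := Γ(Y, ⊤)) (f ≫ Y.isoSpec.hom) hL hG
  obtain ⟨E, π, ⟨N, hN, κ, hκ, ⟨i⟩⟩, hπ⟩ := K685.ResolAmple.exists_negSum hL (M := M)
    ⟨Ega2.Tens.swap M L ≪≫ e⟩ n₀ hF
  let P := CohB1.tensorPow M N
  let Q := CohB1.tensorPow L N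
  have hP : PicF.IsInvertible P := Fdesc.LocGen.isInvertible_tensorPow hM N
  have hQ : PicF.IsInvertible Q := Fdesc.LocGen.isInvertible_tensorPow hL.1 N
  let ePQ : CohB1.tensorMod P Q ≅ Coh.structureModule X :=
    VarietyA.AmpleNegPow.powInv (Ega2.Tens.swap M L ≪≫ e) N
  refine ⟨∐ fun _ : κ => P, i.inv ≫ π, inferInstance,
    isCoh_coprod (K685.ResolAmple.isCoh_of_isInvertible hP), fun p hp => ?_⟩
  refine isZero_ext_coprod f hP ePQ G p ?_
  exact CohqB.RelVan.isZero_Rpush f _ (PerfB.TensInv.isQCoh_tensorRightMod hQ G hG.1) p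
    ((h₀ N hN).1 p hp)

/-- The long exact sequence in the first variable, when the middle term is acyclic in degree `p + 1`. -/
theorem exists_epi_cokernel (f : X ⟶ Y) [HasInjectiveResolutions X.Modules] {S : ShortComplex X.Modules}
    (hS : S.ShortExact) (G : X.Modules) (p : ℕ) (h : IsZero (((Phi f S.X₂).rightDerived (p + 1)).obj G)) :
    ∃ g : ((Phi f S.X₂).rightDerived p).obj G ⟶ ((Phi f S.X₁).rightDerived p).obj G,
      Nonempty (cokernel g ≅ ((Phi f S.X₃).rightDerived (p + 1)).obj G) := by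
  have i0 : ∀ M : X.Modules, ((DCoh.tensorBi (X := X)).flip.obj M).IsLeftAdjoint := K53.LfResMod.hasSheafHom
  have i0' : ∀ M : X.Modules, ModSite.HasSheafHom (O := X.sheaf) M := K53.LfResMod.hasSheafHom
  have i1 : ∀ N : X.Modules, PreservesFiniteColimits ((DCoh.tensorBi (X := X)).obj N) := K53.LfResMod.pfc
  have i2 : ∀ M : X.Modules, ((DCoh.tensorBi (X := X)).flip.obj M).Additive := K53.LfResMod.flipAdd
  have i3 : HasInjectiveResolutions (ModSite.Mod X.sheaf) := ‹HasInjectiveResolutions X.Modules›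
  let T := DCoh.tensorBi (X := X)
  let P := Scheme.Modules.pushforward f
  have hP : ∀ (S : ShortComplex X.Modules) (M I : X.Modules), Injective I → S.ShortExact →
      S.X₁ = (Ho T M).obj I → (S.map P).ShortExact := fun S M I hI hS h =>
    Groth.Agent.PerfC.FlasquePush.map_shortExact f hS (by
      rw [h]
      exact isFlasqueMod_ho M I)
  have hse := fun I (hI : Injective I) => shortExact_Rm T P K53.LfResMod.flatCover hP hS I hI
  have w := Rm_comp_zero T P _ _ S.zero
  let α : Ro T P S.X₃ ⟶ Ro T P S.X₂ := Rm T P S.g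
  let β : Ro T P S.X₂ ⟶ Ro T P S.X₁ := Rm T P S.f
  have e3 := Sga4h.FunLES.exact₃ α β w hse G p
  let φ (M : X.Modules) : Ro T P M ≅ Phi f M := phiIso f M
  let ρ (M : X.Modules) : ((Ro T P M).rightDerived p).obj G ≅ ((Phi f M).rightDerived p).obj G :=
    (derIso (φ M) p).app G
  let ρ' (M : X.Modules) : ((Ro T P M).rightDerived (p + 1)).obj G ≅ ((Phi f M).rightDerived (p + 1)).obj G :=
    (derIso (φ M) (p + 1)).app G
  have hz : IsZero (((Ro T P S.X₂).rightDerived (p + 1)).obj G) := h.of_iso (ρ' S.X₂)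
  have he : Epi (Sga4h.FunLES.δ α β w hse G p) :=
    (Sga4h.FunLES.exact₁ α β w hse G p).epi_f (hz.eq_of_tgt _ _)
  let β' := (NatTrans.rightDerived β p).app G
  let c : cokernel β' ≅ ((Ro T P S.X₃).rightDerived (p + 1)).obj G :=
    (cokernelIsCokernel β').coconePointUniqueUpToIso e3.gIsCokernel
  refine ⟨(ρ S.X₂).inv ≫ β' ≫ (ρ S.X₁).hom, ⟨?_⟩⟩
  let d : cokernel β' ≅ cokernel ((ρ S.X₂).inv ≫ β' ≫ (ρ S.X₁).hom) :=
    cokernel.mapIso _ _ (ρ S.X₂) (ρ S.X₁) (by simp)
  exact d.symm ≪≫ c ≪≫ ρ' S.X₃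

/-- Coherence of relative Ext over an affine Noetherian base. -/
theorem isCoh_of_isAmple [IsAffine Y] [IsNoetherian Y] (f : X ⟶ Y) [IsProper f] [HasInjectiveResolutions X.Modules]
    {L : X.Modules} (hL : CohB1.IsAmple L) {G : X.Modules} (hG : Coh.IsCoh G) (p : ℕ) :
    ∀ F : X.Modules, Coh.IsCoh F → Coh.IsCoh (((Phi f F).rightDerived p).obj G) := by
  have : IsLocallyNoetherian X := LocallyOfFiniteType.isLocallyNoetherian f
  induction p with
  | zero =>
    intro F hF
    exact CohqB.LocalQC.isCoh_of_iso (asIso ((Phi f F).toRightDerivedZero.app G)) (isCoh_phi f hF hG)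
  | succ p ih =>
    intro F hF
    obtain ⟨E, π, hπ, hE, hv⟩ := exists_acyclic f hL hF hG
    let S : ShortComplex X.Modules := ShortComplex.mk (kernel.ι π) π (kernel.condition π)
    have hS : S.ShortExact := { exact := ShortComplex.exact_kernel π }
    obtain ⟨g, ⟨c⟩⟩ := exists_epi_cokernel f hS G p (hv (p + 1) p.succ_pos)
    exact CohqB.LocalQC.isCoh_of_iso c
      (CycB.CohProp.isCoh_cokernel g (ih _ hE) (ih _ (CycB.CohProp.isCoh_kernel π hE hF)))

/-- Coherence of relative Ext. -/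
theorem isCoh [IsLocallyNoetherian Y] (f : X ⟶ Y) [IsProper f] [HasInjectiveResolutions X.Modules]
    (L : X.Modules) (ha : ∀ W : Y.Opens, IsAffineOpen W → CohB1.IsAmple (L.restrict (f ⁻¹ᵁ W).ι))
    {F G : X.Modules} (hF : Coh.IsCoh F) (hG : Coh.IsCoh G) (p : ℕ) :
    Coh.IsCoh (((Phi f F).rightDerived p).obj G) := by
  refine PerfA.CohSerre.isCoh_of_restrict _ fun y => ?_
  obtain ⟨W, hW, hy, -⟩ := exists_isAffineOpen_mem_and_subset (x := y) (U := ⊤) trivial
  refine ⟨W, hy, ?_⟩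
  have : IsAffine W := hW
  have : IsNoetherian W.toScheme := {}
  have := Dcoh.DerSch.hasInjectiveResolutions (f ⁻¹ᵁ W).toScheme
  obtain ⟨e⟩ := nonempty_res f W F G p
  exact CohqB.LocalQC.isCoh_of_iso e.symm (isCoh_of_isAmple (f ∣_ W) (ha W hW)
    (PerfA.CohSerre.isCoh_restrict _ hG) p _ (PerfA.CohSerre.isCoh_restrict _ hF))

end K54.RelCoh
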