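import Groth.Agent.Krr.H492.EulerSeq
import Groth.Agent.FormalB.ProjScalar

/-!
# The Euler sequence `0 ⟶ Ω ⟶ O(-1)^{m+1} ⟶ O(0) ⟶ 0` on `P^m_R`, for any commutative ring `R`

(The case `R = ℤ` is `Krr.H492.EulerSeq`; its proofs are reused here.)
-/

set_option autoImplicit false
universe u

open CategoryTheory CategoryTheory.Limits AlgebraicGeometry TopologicalSpace Opposite

namespace K54.Euler

open Groth.Agent
open Twist Groth.Agent.Ega2.TwistBasic Groth.Agent.Ega2.TwistMul Groth.Agent.Ega2.TwistInv MvPolynomial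
open Groth.Agent.Krr.H492 Groth.Agent.Krr.H492.EulerDer Groth.Agent.Krr.H492.EulerLoc Groth.Agent.Sga67.Sec
open Groth.Agent.CurvesB.OmegaDer
open Groth.Agent.Krr.H492.EulerMap hiding P f L L0 Φ Z exists_φ exists_Φ Φ_d
open Groth.Agent.Krr.H492.EulerGen hiding D D_mul D_one D_res Φ_D span_D ph ph_X ph_C ev_ph d_ph_mem exists_span exists_span'
open Groth.Agent.Krr.H492.EulerSeq hiding zero_aux B pr inc F G F_G π_F ι_G app_G Φ_comb locally_injective exact_aux mono_aux epi_aux seq shortExact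

variable (m : ℕ) (R : Type u) [CommRing R]

/-- Projective space over `R`. -/
noncomputable abbrev P : Scheme.{u} := Proj (gr m R)

/-- Its structure morphism. -/
noncomputable def f : P m R ⟶ Spec (CommRingCat.of R) := CohB1.ProjSpace.toSpec m R

/-- `O(-1)`. -/
noncomputable abbrev L : (P m R).Modules := twist (gr m R) (-1)

/-- `O(0)`. -/
noncomputable abbrev L0 : (P m R).Modules := twist (gr m R) 0

instance : IsProper (f m R) := Groth.Agent.Ega3B.ProjProper.isProper_toSpec m _

/-- The constants. -/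
noncomputable def cst (W : (P m R).Opens) : R →+* Γ(P m R, W) :=
  ((f m R).appLE ⊤ W le_top).hom.comp (Scheme.ΓSpecIso (CommRingCat.of R)).inv.hom

theorem ev_cst (W : (P m R).Opens) (c : R) (x : W) : ev x (cst m R W c) = al m R x.1 (C c) := by
  have h := Groth.Agent.FormalB.ProjScalar.toGlobal_val m R c (op W) x.1 x.2
  refine Eq.trans ?_ (h.trans ?_)
  · rfl
  · rw [IsScalarTower.algebraMap_apply R (Pol m R) (Loc (gr m R) x.1)]
    rfl

theorem δ_cst (j : Fin (m + 1)) (W : (P m R).Opens) (c : R) : δ m R j W (cst m R W c) = 0 := by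
  apply evS_inj (-1)
  intro x
  rw [evS_δ, ev_cst, evS_zero]
  refine (dl_algebraMap m R x.1 j (C c)).trans ?_
  rw [pderiv_C, map_zero]

theorem exists_cst (W : (P m R).Opens) (e : W ≤ f m R ⁻¹ᵁ ⊤) (r : Γ(Spec (CommRingCat.of R), ⊤)) :
    ∃ c : R, (f m R).appLE ⊤ W e r = cst m R W c := by
  have h1 : Function.Surjective ((Scheme.ΓSpecIso (CommRingCat.of R)).inv) := by
    exact (ConcreteCategory.bijective_of_isIso (Scheme.ΓSpecIso (CommRingCat.of R)).inv).2
  obtain ⟨c, rfl⟩ := h1 r
  exact ⟨c, rfl⟩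

theorem exists_φ (j : Fin (m + 1)) {W : (P m R).Opens} (hW : IsAffineOpen W) :
    ∃ φ : Sec (Omega.sheaf (f m R)) W →ₗ[Γ(P m R, W)] Sec (L m R) W,
      ∀ s, φ (d (f m R) W s) = δ m R j W s := by
  refine OmegaLift.exists_lift (f m R) (U := ⊤) (W := W) le_top (isAffineOpen_top _) hW (δ m R j W)
    (δ_mul m R j W) fun r => ?_
  obtain ⟨n, hn⟩ := exists_cst m R W le_top r
  exact (congrArg (δ m R j W) hn).trans (δ_cst m R j W n)

theorem exists_Φ (j : Fin (m + 1)) : ∃ Φ : Omega.sheaf (f m R) ⟶ L m R,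
    ∀ (W : (P m R).Opens) (s : Γ(P m R, W)), appS Φ W (d (f m R) W s) = δ m R j W s := by
  choose φ hφ using fun W : (P m R).affineOpens => exists_φ m R j W.2
  obtain ⟨Φ, hΦ⟩ := exists_hom_of_basis' (affineBasis (P m R)) (Omega.sheaf (f m R)) (L m R)
    φ (fun W W' h s => by
      have hs : s ∈ Submodule.span Γ(P m R, W.1) (Set.range (d (f m R) W.1)) := by
        rw [OmegaLift.span_d (f m R) (U := ⊤) le_top (isAffineOpen_top _) W.2]
        trivial
      induction hs using Submodule.span_induction with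
      | mem s hs =>
        obtain ⟨g, rfl⟩ := hs
        rw [hφ]
        have h1 : res (Omega.sheaf (f m R)) h (d (f m R) W.1 g) = d (f m R) W'.1 (resO (P m R) h g) :=
          d_res (f m R) h g
        rw [h1, hφ, δ_res]
      | zero => rw [map_zero, map_zero, map_zero, map_zero]
      | add a b _ _ ha hb => rw [map_add, map_add, map_add, map_add, ha, hb]
      | smul r a _ ha => rw [res_smul, map_smul, map_smul, res_smul, ha])
  refine ⟨Φ, fun W s => ?_⟩
  apply eq_of_locally
  intro x hx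
  obtain ⟨V, ⟨i, rfl⟩, hxV, hV⟩ := Opens.isBasis_iff_nbhd.mp (affineBasis (P m R)) hx
  refine ⟨i.1, hV, hxV, ?_⟩
  have h1 : res (Omega.sheaf (f m R)) hV (d (f m R) W s) = d (f m R) i.1 (resO (P m R) hV s) :=
    d_res (f m R) hV s
  have h2 : appS Φ i.1 (res (Omega.sheaf (f m R)) hV (d (f m R) W s)) =
      res (L m R) hV (appS Φ W (d (f m R) W s)) := appS_res Φ hV _
  refine h2.symm.trans ((congrArg (appS Φ i.1) h1).trans ?_)
  exact ((hΦ i _).trans (hφ i _)).trans (δ_res m R j hV s)

/-- `Ω ⟶ O(-1)`, `ds ↦ ∂s/∂T_j`. -/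
noncomputable def Φ (j : Fin (m + 1)) : Omega.sheaf (f m R) ⟶ L m R := (exists_Φ m R j).choose

theorem Φ_d (j : Fin (m + 1)) (W : (P m R).Opens) (s : Γ(P m R, W)) :
    appS (Φ m R j) W (d (f m R) W s) = δ m R j W s := (exists_Φ m R j).choose_spec W s

variable {m R} (a : Fin (m + 1))

/-- The universal derivation. -/
noncomputable def D (W : (P m R).Opens) : Γ(P m R, W) →+ Sec (Omega.sheaf (f m R)) W := d (f m R) W

theorem D_mul (W : (P m R).Opens) (s t : Γ(P m R, W)) : D W (s * t) = s • D W t + t • D W s :=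
  d_mul (f m R) W s t

theorem D_one (W : (P m R).Opens) : D W (1 : Γ(P m R, W)) = 0 := by
  have h2 := D_mul W (1 : Γ(P m R, W)) 1
  rw [one_mul, one_smul] at h2
  exact left_eq_add.mp h2

theorem D_res {W V : (P m R).Opens} (h : V ≤ W) (s : Γ(P m R, W)) :
    res (Omega.sheaf (f m R)) h (D W s) = D V (resO _ h s) := d_res (f m R) h s

theorem Φ_D (j : Fin (m + 1)) (W : (P m R).Opens) (s : Γ(P m R, W)) :
    appS (Φ m R j) W (D W s) = δ m R j W s := Φ_d m R j W s

theorem span_D {W : (P m R).Opens} (hW : IsAffineOpen W) :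
    Submodule.span Γ(P m R, W) (Set.range (D W)) = ⊤ :=
  OmegaLift.span_d (f m R) (U := ⊤) le_top (isAffineOpen_top _) hW

theorem D_cst (W : (P m R).Opens) (c : R) : D W (cst m R W c) = 0 := by
  have e : W ≤ f m R ⁻¹ᵁ ⊤ := le_top
  let := algX (f m R) e
  let := modO (f m R) e
  have := isScalarTower (f m R) e
  have h := (der (f m R) e).map_algebraMap ((Scheme.ΓSpecIso (CommRingCat.of R)).inv.hom c)
  rw [der_apply] at h
  exact h

section Eval

variable {W : (P m R).Opens} (hW : Inside a W)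

/-- Evaluation at the `T_k / T_a`. -/
noncomputable def ph : Pol m R →+* Γ(P m R, W) :=
  eval₂Hom (cst m R W) (fun k => y a k hW)

theorem ph_X (k : Fin (m + 1)) : ph a hW (X k) = y a k hW := eval₂Hom_X' _ _ _

theorem ph_C (c : R) : ph a hW (C c) = cst m R W c := by
  rw [ph, eval₂Hom_C]

theorem ev_ph {k : ℕ} {r : Pol m R} (hr : r ∈ gr m R k) (x : W) :
    ev x (ph a hW r) * al m R x.1 (X a) ^ k = al m R x.1 r := by
  have h1 : ev x (ph a hW r) = ∑ d ∈ r.support, (al m R x.1) (C (coeff d r)) *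
      ∏ i, (ev x (y a i hW)) ^ (d i) := by
    rw [ph, coe_eval₂Hom, eval₂_eq', map_sum]
    refine Finset.sum_congr rfl fun d _ => ?_
    rw [map_mul, map_prod]
    congr 1
    · exact ev_cst m R W (coeff d r) x
    · exact Finset.prod_congr rfl fun i _ => map_pow _ _ _
  have h2 : al m R x.1 r = ∑ d ∈ r.support, (al m R x.1) (C (coeff d r)) *
      ∏ i, (al m R x.1 (X i)) ^ (d i) := by
    conv_lhs => rw [← eval₂_eta r, eval₂_eq', map_sum]
    refine Finset.sum_congr rfl fun d _ => ?_
    rw [map_mul, map_prod]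
    congr 1
    exact Finset.prod_congr rfl fun i _ => map_pow _ _ _
  rw [h1, h2, Finset.sum_mul]
  refine Finset.sum_congr rfl fun d hd => ?_
  have h3 : ∑ i, d i = k := by
    have h4 := (mem_homogeneousSubmodule _ _).mp hr (mem_support_iff.mp hd)
    rw [← h4, Finsupp.weight_apply, Finsupp.sum_fintype]
    · simp
    · simp
  have h5 : ∏ i, (al m R x.1 (X i)) ^ (d i) = (∏ i, (ev x (y a i hW)) ^ (d i)) * al m R x.1 (X a) ^ k := by
    rw [← h3, ← Finset.prod_pow_eq_pow_sum, ← Finset.prod_mul_distrib]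
    refine Finset.prod_congr rfl fun i _ => ?_
    rw [← ev_y_mul a i hW x, mul_pow]
  rw [h5, mul_assoc]

theorem d_ph_mem (r : Pol m R) : D W (ph a hW r) ∈
    Submodule.span Γ(P m R, W) (Set.range fun k => D W (y a k hW)) := by
  induction r using MvPolynomial.induction_on with
  | C c =>
    rw [ph_C, D_cst]
    exact zero_mem _
  | add p q hp hq => rw [map_add, map_add]; exact add_mem hp hq
  | mul_X p k hp =>
    rw [map_mul, D_mul, ph_X]
    exact add_mem (Submodule.smul_mem _ _ (Submodule.subset_span ⟨k, rfl⟩)) (Submodule.smul_mem _ _ hp)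

end Eval

theorem exists_frac {W : (Proj (gr m R)).Opens} (g : Γ(Proj (gr m R), W)) (x : Proj (gr m R)) (hx : x ∈ W) :
    ∃ (V : (Proj (gr m R)).Opens) (h : V ≤ W) (k : ℕ) (r t : gr m R k)
      (nin : ∀ z : ProjectiveSpectrum (gr m R), z ∈ V → t.1 ∈ z.asHomogeneousIdeal.toIdeal.primeCompl),
      x ∈ V ∧ ∀ z : V, ev z (resO _ h g) = (Localization.mk r.1 ⟨t.1, nin z.1 z.2⟩ : Loc (gr m R) z.1) := by
  rcases (toO m R g).2 ⟨x, hx⟩ with ⟨V, hxV, i, k, r, t, nin, w⟩
  refine ⟨V, i.le, k, r, t, fun z hz => nin ⟨z, hz⟩, hxV, fun z => ?_⟩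
  refine (congrArg HomogeneousLocalization.val (w z)).trans ?_
  exact HomogeneousLocalization.val_mk _

theorem exists_span {W : (P m R).Opens} (hW : Inside a W) (g : Γ(P m R, W)) (x : P m R) (hx : x ∈ W) :
    ∃ (V : (P m R).Opens) (h : V ≤ W), x ∈ V ∧ D V (resO _ h g) ∈
      Submodule.span Γ(P m R, V) (Set.range fun k => D V (y a k (hW.mono h))) := by
  obtain ⟨V, hVW, k, r, t, nin, hxV, hg⟩ := exists_frac g x hx
  refine ⟨V, hVW, hxV, ?_⟩
  have hV : Inside a V := hW.mono hVW
  have hu : ∀ z : V, IsUnit (al m R z.1 (X a) ^ k) := fun z => (isUnit_al m R z.1 (hV z.1 z.2)).pow k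
  have h1 : resO _ hVW g * ph a hV t = ph a hV r := by
    apply ev_inj
    intro z
    apply (hu z).mul_left_injective
    dsimp only
    rw [map_mul, mul_assoc, ev_ph a hV t.2, ev_ph a hV r.2, hg z]
    exact mk_mul_al m R z.1 r.1 (nin z.1 z.2)
  have h2 : qS (powOne (T m R a) k) t V nin * ph a hV t = 1 := by
    apply ev_inj
    intro z
    apply (hu z).mul_left_injective
    dsimp only
    rw [map_mul, mul_assoc, ev_ph a hV t.2, map_one, one_mul, ev_qS]
    refine (mk_mul_al m R z.1 _ (nin z.1 z.2)).trans ?_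
    rw [powOne_val, map_pow]
    rfl
  have h3 := D_mul V (resO _ hVW g) (ph a hV t)
  rw [h1] at h3
  have h4 : (ph a hV t : Γ(P m R, V)) • D V (resO _ hVW g) ∈
      Submodule.span Γ(P m R, V) (Set.range fun k => D V (y a k hV)) := by
    have h5 : (ph a hV t : Γ(P m R, V)) • D V (resO _ hVW g) =
        D V (ph a hV r) - resO _ hVW g • D V (ph a hV t) := by
      rw [h3, add_sub_cancel_left]
    rw [h5]
    exact sub_mem (d_ph_mem a hV r) (Submodule.smul_mem _ _ (d_ph_mem a hV t))
  have h6 := Submodule.smul_mem _ (qS (powOne (T m R a) k) t V nin) h4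
  rw [← mul_smul, h2, one_smul] at h6
  exact h6

theorem exists_span' {W : (P m R).Opens} (hW : Inside a W) (s : Sec (Omega.sheaf (f m R)) W) (x : P m R)
    (hx : x ∈ W) : ∃ (V : (P m R).Opens) (h : V ≤ W), x ∈ V ∧ res (Omega.sheaf (f m R)) h s ∈
      Submodule.span Γ(P m R, V) (Set.range fun k => D V (y a k (hW.mono h))) := by
  obtain ⟨W', hW', hxW', hle⟩ := Opens.isBasis_iff_nbhd.mp (P m R).isBasis_affineOpens hx
  have hs : res (Omega.sheaf (f m R)) hle s ∈ Submodule.span Γ(P m R, W') (Set.range (D W')) := by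
    rw [span_D hW']
    trivial
  have key : ∀ z ∈ Submodule.span Γ(P m R, W') (Set.range (D W')),
      ∃ (V : (P m R).Opens) (h : V ≤ W'), x ∈ V ∧ res (Omega.sheaf (f m R)) h z ∈
      Submodule.span Γ(P m R, V) (Set.range fun k => D V (y a k (hW.mono (h.trans hle)))) := by
    intro z hz
    induction hz using Submodule.span_induction with
    | mem z hz =>
      obtain ⟨g, rfl⟩ := hz
      obtain ⟨V, h, hxV, hV⟩ := exists_span a (hW.mono hle) g x hxW'
      refine ⟨V, h, hxV, ?_⟩
      have h1 : res (Omega.sheaf (f m R)) h (D W' g) = D V (resO (P m R) h g) :=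
        D_res h g
      rw [h1]
      exact hV
    | zero => exact ⟨W', le_rfl, hxW', by rw [map_zero]; exact zero_mem _⟩
    | add p q _ _ hp hq =>
      obtain ⟨V, h, hxV, hV⟩ := hp
      obtain ⟨V', h', hxV', hV'⟩ := hq
      refine ⟨V ⊓ V', inf_le_left.trans h, ⟨hxV, hxV'⟩, ?_⟩
      have key2 : ∀ {A B : (P m R).Opens} (hA : A ≤ W') (hBA : B ≤ A) (z : Sec (Omega.sheaf (f m R)) A),
          z ∈ Submodule.span Γ(P m R, A) (Set.range fun k => D A (y a k (hW.mono (hA.trans hle)))) →
          res (Omega.sheaf (f m R)) hBA z ∈ Submodule.span Γ(P m R, B)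
            (Set.range fun k => D B (y a k (hW.mono ((hBA.trans hA).trans hle)))) := by
        intro A B hA hBA z hz
        induction hz using Submodule.span_induction with
        | mem z hz =>
          obtain ⟨k, rfl⟩ := hz
          refine Submodule.subset_span ⟨k, ?_⟩
          exact (D_res hBA (y a k (hW.mono (hA.trans hle)))).symm
        | zero => rw [map_zero]; exact zero_mem _
        | add p q _ _ hp hq => rw [map_add]; exact add_mem hp hq
        | smul c p _ hp => rw [res_smul]; exact Submodule.smul_mem _ _ hp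
      have h1 := key2 (B := V ⊓ V') h inf_le_left _ hV
      have h2 := key2 (B := V ⊓ V') h' inf_le_right _ hV'
      rw [res_res] at h1 h2
      rw [map_add]
      exact add_mem h1 h2
    | smul c p _ hp =>
      obtain ⟨V, h, hxV, hV⟩ := hp
      exact ⟨V, h, hxV, by rw [res_smul]; exact Submodule.smul_mem _ _ hV⟩
  obtain ⟨V, h, hxV, hV⟩ := key _ hs
  refine ⟨V, h.trans hle, hxV, ?_⟩
  rw [res_res] at hV
  exact hV

attribute [local instance] Abelian.hasFiniteBiproducts

variable (m R)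

theorem zero_aux : ∑ j, Φ m R j ≫ Ψ m R j = 0 := by
  apply hom_ext_of_locally
  intro x U hx
  obtain ⟨W, hW, hxW, hle⟩ := Opens.isBasis_iff_nbhd.mp (P m R).isBasis_affineOpens hx
  refine ⟨W, hle, hxW, fun s => ?_⟩
  have hs : s ∈ Submodule.span Γ(P m R, W) (Set.range (D W)) := by
    rw [span_D hW]
    trivial
  rw [appS_zero]
  induction hs using Submodule.span_induction with
  | mem s hs =>
    obtain ⟨g, rfl⟩ := hs
    rw [appS_sum]
    refine (Finset.sum_congr rfl fun j _ => ?_).trans (sum_Ψ_δ g)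
    rw [appS_comp, Φ_D]
  | zero => rw [map_zero]
  | add p q _ _ hp hq => rw [map_add, hp, hq, add_zero]
  | smul c p _ hp => rw [map_smul, hp, smul_zero]

/-- The middle term. -/
noncomputable abbrev B : (P m R).Modules := ⨁ fun _ : Fin (m + 1) => L m R

/-- The projections. -/
noncomputable abbrev pr (j : Fin (m + 1)) : B m R ⟶ L m R := biproduct.π _ j

/-- The inclusions. -/
noncomputable abbrev inc (j : Fin (m + 1)) : L m R ⟶ B m R := biproduct.ι (fun _ : Fin (m + 1) => L m R) j

/-- `Ω ⟶ O(-1)^{m+1}`. -/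
noncomputable def F : Omega.sheaf (f m R) ⟶ B m R := biproduct.lift (Φ m R)

/-- `O(-1)^{m+1} ⟶ O(0)`. -/
noncomputable def G : B m R ⟶ L0 m R := biproduct.desc (Ψ m R)

theorem F_G : F m R ≫ G m R = 0 := biproduct.lift_desc.trans (zero_aux m R)

theorem π_F (j : Fin (m + 1)) (U : (P m R).Opens) (s : Sec (Omega.sheaf (f m R)) U) :
    appS (pr m R j) U (appS (F m R) U s) = appS (Φ m R j) U s :=
  congrArg (fun φ => appS φ U s) (biproduct.lift_π (Φ m R) j)

theorem ι_G (j : Fin (m + 1)) (U : (P m R).Opens) (s : Sec (L m R) U) :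
    appS (G m R) U (appS (inc m R j) U s) = appS (Ψ m R j) U s :=
  congrArg (fun φ => appS φ U s) (biproduct.ι_desc (Ψ m R) j)

theorem app_G (U : (P m R).Opens) (s : Sec (B m R) U) :
    appS (G m R) U s = ∑ j, appS (Ψ m R j) U (appS (pr m R j) U s) := by
  conv_lhs => rw [← sec_total (fun _ : Fin (m + 1) => L m R) U s]
  rw [map_sum]
  exact Finset.sum_congr rfl fun j _ => ι_G m R j U _

variable {m R}

/-- Value of the maps on a combination of the `d y_k`. -/
theorem Φ_comb {a : Fin (m + 1)} {V : (P m R).Opens} (hV : Inside a V) (c : Fin (m + 1) → Γ(P m R, V))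
    (j : Fin (m + 1)) : appS (Φ m R j) V (∑ k, c k • D V (y a k hV)) =
      (c j - (if j = a then ∑ k, c k * y a k hV else 0)) • ea a hV := by
  rw [map_sum]
  have h : ∀ k, appS (Φ m R j) V (c k • D V (y a k hV)) =
      ((if j = k then c k else 0) - (if j = a then c k * y a k hV else 0)) • ea a hV := by
    intro k
    rw [map_smul, Φ_D, δ_y, smul_sub, ← mul_smul, ← mul_smul, ← mul_smul, ← sub_smul]
    congr 1
    split_ifs <;> ring
  rw [Finset.sum_congr rfl fun k _ => h k, ← Finset.sum_smul, Finset.sum_sub_distrib]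
  congr 2
  · rw [Finset.sum_ite_eq]
    simp
  · split_ifs
    · rfl
    · exact Finset.sum_const_zero

theorem locally_injective (x : P m R) {W : (P m R).Opens} (hx : x ∈ W) (s : Sec (Omega.sheaf (f m R)) W)
    (hs : ∀ j, appS (Φ m R j) W s = 0) :
    ∃ (V : (P m R).Opens) (h : V ≤ W), x ∈ V ∧ res _ h s = 0 := by
  obtain ⟨a, V₀, h₀, hx₀, hV₀⟩ := exists_inside m x W hx
  obtain ⟨V, h, hxV, hmem⟩ := exists_span' a hV₀ (res _ h₀ s) x hx₀
  refine ⟨V, h.trans h₀, hxV, ?_⟩
  rw [res_res] at hmem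
  obtain ⟨c, hc⟩ := (Submodule.mem_span_range_iff_exists_fun _).mp hmem
  have hV := hV₀.mono h
  have h1 : ∀ j, c j - (if j = a then ∑ k, c k * y a k hV else 0) = 0 := by
    intro j
    apply (bijective_ea a hV).1
    dsimp only
    rw [← Φ_comb hV c j, hc, appS_res, hs j, map_zero, zero_smul]
  rw [← hc]
  have h2 : ∀ j, c j • D V (y a j hV) = 0 := by
    intro j
    by_cases hj : j = a
    · subst hj
      rw [y_self, D_one, smul_zero]
    · have h3 := h1 j
      rw [if_neg hj, sub_zero] at h3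
      rw [h3, zero_smul]
  exact Finset.sum_eq_zero fun j _ => h2 j

variable (m R)

theorem exact_aux (U : (P m R).Opens) (s : Sec (B m R) U) (hs : appS (G m R) U s = 0) (x : P m R)
    (hx : x ∈ U) : ∃ (V : (P m R).Opens) (h : V ≤ U), x ∈ V ∧
      ∃ t : Sec (Omega.sheaf (f m R)) V, appS (F m R) V t = res _ h s := by
  obtain ⟨a, V, h, hxV, hV⟩ := exists_inside m x U hx
  refine ⟨V, h, hxV, ?_⟩
  have h1 : ∀ j, ∃ c : Γ(P m R, V), c • ea a hV = appS (pr m R j) V (res _ h s) := fun j =>
    (bijective_ea a hV).2 _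
  choose c hc using h1
  have h2 : ∑ k, c k * y a k hV = 0 := by
    apply (bijective_e0 V).1
    have h3 := appS_res (G m R) h s
    rw [hs, map_zero, app_G] at h3
    have h4 : (0 : Γ(P m R, V)) • (e0 V : Sec (L0 m R) V) = 0 := zero_smul _ _
    refine Eq.trans ?_ (h3.trans h4.symm)
    refine (Finset.sum_smul (R := Γ(P m R, V)) (M := Sec (L0 m R) V)).trans ?_
    refine Finset.sum_congr rfl fun j _ => ?_
    rw [← hc, map_smul, Ψ_ea, ← mul_smul]
  refine ⟨∑ k, c k • D V (y a k hV), ?_⟩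
  refine sec_ext (fun _ : Fin (m + 1) => L m R) V _ _ fun j => ?_
  refine (π_F m R j V _).trans ((Φ_comb hV c j).trans (Eq.trans ?_ (hc j)))
  rw [h2]
  congr 1
  split_ifs <;> simp

theorem mono_aux : Mono (F m R) := by
  rw [Preadditive.mono_iff_cancel_zero]
  intro K g hg
  apply hom_ext
  intro U s
  rw [appS_zero]
  apply eq_of_locally
  intro x hx
  obtain ⟨V, h, hxV, h0⟩ := locally_injective x hx (appS g U s) fun j => by
    refine (π_F m R j U _).symm.trans ?_
    have h1 : appS (F m R) U (appS g U s) = 0 := by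
      rw [← appS_comp, hg, appS_zero]
    rw [h1, map_zero]
  exact ⟨V, h, hxV, h0.trans (map_zero _).symm⟩

theorem epi_aux : Epi (G m R) := by
  apply epi_of_locally_surjective
  intro U s x hx
  obtain ⟨a, V, h, hxV, hV⟩ := exists_inside m x U hx
  refine ⟨V, h, hxV, ?_⟩
  obtain ⟨c, hc⟩ := (bijective_e0 V).2 (res _ h s)
  refine ⟨appS (inc m R a) V (c • ea a hV), ?_⟩
  refine (ι_G m R a V _).trans ?_
  rw [map_smul, Ψ_ea, y_self, one_smul]
  exact hc

/-- The Euler sequence. -/
noncomputable def seq : ShortComplex (P m R).Modules := ShortComplex.mk (F m R) (G m R) (F_G m R)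

theorem shortExact : (seq m R).ShortExact where
  exact := exact_of_locally (S := seq m R) (exact_aux m R)
  mono_f := mono_aux m R
  epi_g := epi_aux m R

end K54.Euler
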