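import Groth.Agent.Coherent.K54.ExtSes
import Groth.Agent.Coherent.K54.Euler
import Groth.Agent.Krr.H502.KosZero
import Groth.Agent.Krr.H487.KerRank
import Groth.Agent.Dual.H366.ExtQCoh
import Groth.Agent.Sga67.TwistProj
import Groth.Agent.FormalB.HHLes
import Groth.Agent.S0843
import Groth.Agent.Ega2.QCohLocal
import Groth.Agent.Dcoh.LocalFree
import Groth.Agent.Ega3B.HLes

/-!
# Cohomology of the exterior powers of `Ω` on projective space over a ring

* `hh_extPow_biprod`: `H^q(P^n, Λ^p(O(-1)^r)(k)) = 0` if `H^q(P^n, O(k - p)) = 0`.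
* `exists_ses_omega`: `0 → Ω^{p+1}(k) → M → Ω^p(k) → 0` with `H^q(M) = 0` if `H^q(O(k - p - 1)) = 0`.
-/

set_option autoImplicit false
universe u v

open CategoryTheory CategoryTheory.Limits AlgebraicGeometry
open Groth.Agent Groth.Agent.Sga67.TwistProj

namespace K54.HodgePn

section Abstract

variable {A : Type u} [Category.{v} A] [Abelian A]

attribute [local instance] Abelian.hasFiniteBiproducts

variable {n : ℕ} (K : Fin (n + 1) → A)

/-- Split exact sequence `⨁_{j ≥ 1} K_j ⟶ ⨁ K ⟶ K_0`. -/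
noncomputable def seq : ShortComplex A :=
  ShortComplex.mk (biproduct.desc fun j : Fin n => biproduct.ι K j.succ) (biproduct.π K 0) (by
    apply biproduct.hom_ext'
    intro j
    rw [biproduct.ι_desc_assoc, comp_zero, biproduct.ι_π_ne _ (Fin.succ_ne_zero j)])

theorem shortExact_seq : (seq K).ShortExact :=
  (ShortComplex.Splitting.mk (S := seq K)
    (biproduct.lift fun j : Fin n => biproduct.π K j.succ) (biproduct.ι K 0)
    (by
      change (biproduct.desc fun j : Fin n => biproduct.ι K j.succ) ≫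
        (biproduct.lift fun j : Fin n => biproduct.π K j.succ) = 𝟙 (⨁ fun j : Fin n => K j.succ)
      apply biproduct.hom_ext'
      intro j
      apply biproduct.hom_ext
      intro k
      rw [biproduct.ι_desc_assoc, Category.assoc, biproduct.lift_π, Category.comp_id]
      by_cases h : j = k
      · subst h
        rw [biproduct.ι_π_self, biproduct.ι_π_self]
      · rw [biproduct.ι_π_ne _ h, biproduct.ι_π_ne _ (fun h' => h (Fin.succ_injective _ h'))])
    (by exact biproduct.ι_π_self K 0)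
    (by
      change (biproduct.lift fun j : Fin n => biproduct.π K j.succ) ≫
        (biproduct.desc fun j : Fin n => biproduct.ι K j.succ) + biproduct.π K 0 ≫ biproduct.ι K 0 = 𝟙 _
      have h := biproduct.total (f := K)
      rw [Fin.sum_univ_succ] at h
      rw [biproduct.lift_desc, add_comm (∑ _, _), h])).shortExact

end Abstract

attribute [local instance] Abelian.hasFiniteBiproducts

variable (n : ℕ) (A : Type u) [CommRing A]

/-- Projective space. -/
local notation "PP" => CohB1.ProjSpace n A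
/-- Twists. -/
local notation "OO" => Twist.twistProjSpace n A

/-- `O(-1)^r`. -/
noncomputable abbrev E (r : ℕ) : (CohB1.ProjSpace n A).Modules :=
  ⨁ fun _ : Fin r => Twist.twistProjSpace n A (-1)

theorem rank_one (k : ℤ) : FlatMod.IsFinLocFreeOfRank 1 (Twist.twistProjSpace n A k) :=
  Ega2.QCohLocal.isFinLocFreeOfRank_one_iff.2 (Ega3B.ProjFrame.isInvertible_twistProjSpace n A k)

theorem rank_zero_of_isZero {X : Scheme.{u}} {M : X.Modules} (h : IsZero M) :
    FlatMod.IsFinLocFreeOfRank 0 M := fun _ =>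
  ⟨⊤, trivial, ⟨((Scheme.Modules.restrictFunctor (⊤ : X.Opens).ι).map_isZero h).iso
    Dcoh.LocalFree.isZero_freeMod_zero⟩⟩

theorem rank_E (r : ℕ) : FlatMod.IsFinLocFreeOfRank r (E n A r) := by
  induction r with
  | zero =>
    refine rank_zero_of_isZero ?_
    rw [IsZero.iff_id_eq_zero]
    exact biproduct.hom_ext' _ _ fun j => j.elim0
  | succ r ih =>
    exact Krr.H487.KerRank.isFinLocFreeOfRank_mid
      (shortExact_seq (fun _ : Fin (r + 1) => Twist.twistProjSpace n A (-1))) ih (rank_one n A (-1))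

theorem isQCoh_E (r : ℕ) : Coh.IsQCoh (E n A r) :=
  Ega2.QCohLocal.isQCoh_of_isFinLocFree (Krr.H487.KerRank.isFinLocFree_of_rank (rank_E n A r))

variable {n A}

theorem nonempty_tA_extPow_zero {M L : (CohB1.ProjSpace n A).Modules} (hL : ExtPow.IsExtPow 0 M L)
    (k : ℤ) : Nonempty (Twist.twistProjSpace n A k ≅ (tA n A k).obj L) := by
  obtain ⟨e⟩ := Sga67.TensorOps.nonempty_iso_of_isExtPow (Iso.refl M) hL (Sga67.TensorOps.isExtPow_zero M)
  exact ⟨(Ega2.Tens.runit (Twist.twistProjSpace n A k)).symm ≪≫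
    Ega2.Tens.mapTIso (Iso.refl (Twist.twistProjSpace n A k)) e.symm⟩

/-- `O(k) ⊗ (K ⊗ O(j)) ≅ O(k + j) ⊗ K`. -/
theorem nonempty_tA_tensor (K : (CohB1.ProjSpace n A).Modules) (k j l : ℤ) (h : k + j = l) :
    Nonempty ((tA n A k).obj (CohB1.tensorMod K (Twist.twistProjSpace n A j)) ≅ (tA n A l).obj K) := by
  obtain ⟨e⟩ := nonempty_tA_tA n A k j l h K
  exact ⟨(tA n A k).mapIso (Ega2.Tens.swap K (Twist.twistProjSpace n A j)) ≪≫ e⟩

/-- Twisted version of the exterior power sequence, in terms of `tA`. -/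
theorem exists_ses_tA {S : ShortComplex (CohB1.ProjSpace n A).Modules} (hS : S.ShortExact) (j : ℤ)
    (e₃ : S.X₃ ≅ Twist.twistProjSpace n A j) {p : ℕ} {L' L K : (CohB1.ProjSpace n A).Modules}
    (hL' : ExtPow.IsExtPow (p + 1) S.X₁ L') (hL : ExtPow.IsExtPow (p + 1) S.X₂ L)
    (hK : ExtPow.IsExtPow p S.X₁ K) (k l : ℤ) (h : k + j = l) :
    ∃ T : ShortComplex (CohB1.ProjSpace n A).Modules, T.ShortExact ∧
      T.X₁ = (tA n A k).obj L' ∧ T.X₂ = (tA n A k).obj L ∧ Nonempty (T.X₃ ≅ (tA n A l).obj K) := by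
  obtain ⟨a, b, w, hT⟩ := ExtSes.exists_ses hS
    (Krr.H487.KerRank.isFinLocFreeOfRank_of_iso e₃.symm (rank_one n A j)) hL' hL hK
  obtain ⟨e⟩ := nonempty_tA_tensor K k j l h
  exact ⟨_, shortExact_tA hT k, rfl, rfl,
    ⟨(tA n A k).mapIso (Ega2.Tens.mapTIso (Iso.refl K) e₃) ≪≫ e⟩⟩

variable (n A) in
theorem hh_extPow_biprod (r : ℕ) : ∀ (p : ℕ) (L : (CohB1.ProjSpace n A).Modules)
    (_ : ExtPow.IsExtPow p (E n A r) L) (k : ℤ) (q : ℕ)
    (_ : Subsingleton (Coh.HH (CohB1.ProjSpace n A) (Twist.twistProjSpace n A (k - p)) q)),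
    Subsingleton (Coh.HH (CohB1.ProjSpace n A) ((tA n A k).obj L) q) := by
  induction r with
  | zero =>
    intro p L hL k q h
    obtain _ | p := p
    · obtain ⟨e⟩ := nonempty_tA_extPow_zero hL k
      exact Fga.HShift.subsingleton_of_iso e q (by simpa using h)
    · exact Fga.HShift.subsingleton_of_isZero
        ((tA n A k).map_isZero (Krr.H502.KosZero.isZero_of_isExtPow (rank_E n A 0) hL (by omega))) q
  | succ r ih =>
    intro p L hL k q h
    obtain _ | p := p
    · obtain ⟨e⟩ := nonempty_tA_extPow_zero hL k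
      exact Fga.HShift.subsingleton_of_iso e q (by simpa using h)
    · have hq := isQCoh_E n A r
      obtain ⟨L', hL'⟩ := Dual.H366.ExtQCoh.exists_isExtPow (p + 1) hq
      obtain ⟨K, hK⟩ := Dual.H366.ExtQCoh.exists_isExtPow p hq
      obtain ⟨T, hT, e1, e2, ⟨e3⟩⟩ := exists_ses_tA
        (shortExact_seq (fun _ : Fin (r + 1) => Twist.twistProjSpace n A (-1))) (-1) (Iso.refl _)
        hL' hL hK k (k - 1) (by ring)
      rw [← e2]
      refine Fga.HShift.subsingleton₂ hT q ?_ ?_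
      · rw [e1]
        exact ih (p + 1) L' hL' k q h
      · refine Fga.HShift.subsingleton_of_iso e3.symm q (ih p K hK (k - 1) q ?_)
        have : k - 1 - (p : ℤ) = k - ((p + 1 : ℕ) : ℤ) := by push_cast; ring
        rw [this]
        exact h

variable (n A) in
/-- The differentials have rank `n`. -/
theorem rank_omega : FlatMod.IsFinLocFreeOfRank n (Omega.sheaf (CohB1.ProjSpace.toSpec n A)) :=
  Krr.H487.KerRank.isFinLocFreeOfRank_left (Euler.shortExact n A) (rank_E n A (n + 1))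
    (rank_one n A 0)

/-- `0 → Ω^{p+1}(k) → M → Ω^p(k) → 0` with `H^q(M) = 0` if `H^q(O(k - p - 1)) = 0`. -/
theorem exists_ses_omega {p : ℕ} {L' K : (CohB1.ProjSpace n A).Modules}
    (hL' : ExtPow.IsExtPow (p + 1) (Omega.sheaf (CohB1.ProjSpace.toSpec n A)) L')
    (hK : ExtPow.IsExtPow p (Omega.sheaf (CohB1.ProjSpace.toSpec n A)) K) (k : ℤ) :
    ∃ T : ShortComplex (CohB1.ProjSpace n A).Modules, T.ShortExact ∧
      T.X₁ = (tA n A k).obj L' ∧ Nonempty (T.X₃ ≅ (tA n A k).obj K) ∧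
      ∀ q : ℕ, Subsingleton (Coh.HH (CohB1.ProjSpace n A) (Twist.twistProjSpace n A (k - (p + 1))) q) →
        Subsingleton (Coh.HH (CohB1.ProjSpace n A) T.X₂ q) := by
  have hq := isQCoh_E n A (n + 1)
  obtain ⟨L, hL⟩ := Dual.H366.ExtQCoh.exists_isExtPow (p + 1) hq
  obtain ⟨T, hT, e1, e2, e3⟩ := exists_ses_tA (Euler.shortExact n A) 0 (Iso.refl _) hL' hL hK k k
    (add_zero k)
  refine ⟨T, hT, e1, e3, fun q h => ?_⟩
  rw [e2]
  refine hh_extPow_biprod n A (n + 1) (p + 1) L hL k q ?_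
  push_cast
  exact h

theorem isZero_of_lt {p : ℕ} {L : (CohB1.ProjSpace n A).Modules}
    (hL : ExtPow.IsExtPow p (Omega.sheaf (CohB1.ProjSpace.toSpec n A)) L) (h : n < p) : IsZero L :=
  Krr.H502.KosZero.isZero_of_isExtPow (rank_omega n A) hL h

variable (n A) in
theorem exists_extPow_omega (p : ℕ) : ∃ L : (CohB1.ProjSpace n A).Modules,
    ExtPow.IsExtPow p (Omega.sheaf (CohB1.ProjSpace.toSpec n A)) L :=
  Dual.H366.ExtQCoh.exists_isExtPow p (Ega2.QCohLocal.isQCoh_of_isFinLocFree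
    (Krr.H487.KerRank.isFinLocFree_of_rank (rank_omega n A)))

/-- `H^0(Ω^{p+1}(k))` injects in `H^0(M)`. -/
theorem subsingleton_zero {X : Scheme.{u}} {T : ShortComplex X.Modules} (hT : T.ShortExact)
    (h : Subsingleton (Coh.HH X T.X₂ 0)) : Subsingleton (Coh.HH X T.X₁ 0) := by
  have := (Ega3B.HLes.shortExact_abShort hT).mono_f
  exact (Ega3B.HLes.ab_injective (Ega3B.HLes.abShort T).f).subsingleton

/-- Vanishing of the cohomology of `Ω^p` off the diagonal. -/
theorem vanish (p : ℕ) : ∀ (L : (CohB1.ProjSpace n A).Modules)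
    (_ : ExtPow.IsExtPow p (Omega.sheaf (CohB1.ProjSpace.toSpec n A)) L) (q : ℕ) (_ : p ≠ q ∨ n < p),
    Subsingleton (Coh.HH (CohB1.ProjSpace n A) L q) := by
  induction p with
  | zero =>
    intro L hL q h
    have hq : 0 < q := by omega
    obtain ⟨e⟩ := nonempty_tA_extPow_zero hL 0
    rw [← hh_tA_zero]
    exact Fga.HShift.subsingleton_of_iso e q (S0844.result A n 0 q (by omega) (by omega))
  | succ p ih =>
    intro L hL q h
    rcases Nat.lt_or_ge n (p + 1) with hn | hn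
    · exact Fga.HShift.subsingleton_of_isZero (isZero_of_lt hL hn) q
    · obtain ⟨K, hK⟩ := exists_extPow_omega n A p
      obtain ⟨T, hT, e1, ⟨e3⟩, hv⟩ := exists_ses_omega hL hK 0
      rw [← hh_tA_zero, ← e1]
      have hM : ∀ q, Subsingleton (Coh.HH (CohB1.ProjSpace n A) T.X₂ q) := fun q =>
        hv q (S0844.result A n _ q (by omega) (by omega))
      obtain _ | q := q
      · exact subsingleton_zero hT (hM 0)
      · refine Fga.HShift.subsingleton₁ hT q (Fga.HShift.subsingleton_of_iso e3.symm q ?_) (hM (q + 1))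
        rw [hh_tA_zero]
        exact ih K hK q (by omega)

/-- `H^q(Ω^p(k)) = 0` for `q, k > 0`. -/
theorem vanish_pos (k : ℤ) (hk : 0 < k) (j : ℕ) : ∀ (p : ℕ) (_ : n < p + j)
    (L : (CohB1.ProjSpace n A).Modules)
    (_ : ExtPow.IsExtPow p (Omega.sheaf (CohB1.ProjSpace.toSpec n A)) L) (q : ℕ) (_ : 0 < q),
    Subsingleton (Coh.HH (CohB1.ProjSpace n A) ((tA n A k).obj L) q) := by
  induction j with
  | zero =>
    intro p hp L hL q hq
    exact Fga.HShift.subsingleton_of_isZero ((tA n A k).map_isZero (isZero_of_lt hL hp)) q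
  | succ j ih =>
    intro p hp L hL q hq
    rcases Nat.lt_or_ge n p with hn | hn
    · exact Fga.HShift.subsingleton_of_isZero ((tA n A k).map_isZero (isZero_of_lt hL hn)) q
    · obtain ⟨L', hL'⟩ := exists_extPow_omega n A (p + 1)
      obtain ⟨T, hT, e1, ⟨e3⟩, hv⟩ := exists_ses_omega hL' hL k
      refine Fga.HShift.subsingleton_of_iso e3 q (Fga.HShift.subsingleton₃ hT q ?_ ?_)
      · exact hv q (S0844.result A n _ q (by omega) (by omega))
      · rw [e1]
        exact ih (p + 1) (by omega) L' hL' (q + 1) (by omega)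

/-- An isomorphism of modules induces a linear isomorphism on cohomology. -/
theorem nonempty_linearEquiv {M N : (CohB1.ProjSpace n A).Modules} (e : M ≅ N) (q : ℕ) :
    Nonempty (Coh.HH (CohB1.ProjSpace n A) M q ≃ₗ[A] Coh.HH (CohB1.ProjSpace n A) N q) := by
  refine ⟨LinearEquiv.ofLinearMap (FormalA.HHLin.HHmap A e.hom q) (FormalA.HHLin.HHmap A e.inv q) ?_ ?_⟩
  · rw [← FormalA.HHLin.HHmap_comp, e.inv_hom_id, FormalA.HHLin.HHmap_id]
  · rw [← FormalA.HHLin.HHmap_comp, e.hom_inv_id, FormalA.HHLin.HHmap_id]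

/-- Homogeneous polynomials of degree zero. -/
noncomputable def homog0 : ↥(MvPolynomial.homogeneousSubmodule (Fin (n + 1)) A 0) ≃ₗ[A] A :=
  LinearEquiv.ofBijective
    ((MvPolynomial.lcoeff A (0 : Fin (n + 1) →₀ ℕ)).comp
      (MvPolynomial.homogeneousSubmodule (Fin (n + 1)) A 0).subtype) (by
    constructor
    · intro p q hpq
      have h1 : ∀ p : ↥(MvPolynomial.homogeneousSubmodule (Fin (n + 1)) A 0),
          p.1 = MvPolynomial.C (MvPolynomial.coeff 0 p.1) := by
        intro p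
        exact MvPolynomial.totalDegree_eq_zero_iff_eq_C.1
          ((MvPolynomial.totalDegree_zero_iff_isHomogeneous _).2 p.2)
      apply Subtype.ext
      rw [h1 p, h1 q]
      exact congrArg MvPolynomial.C hpq
    · intro r
      refine ⟨⟨MvPolynomial.C r, MvPolynomial.isHomogeneous_C _ r⟩, ?_⟩
      exact MvPolynomial.coeff_zero_C r)

/-- `H^p(Ω^p) ≅ A`. -/
theorem diagonal (p : ℕ) (hp : p ≤ n) : ∀ (L : (CohB1.ProjSpace n A).Modules)
    (_ : ExtPow.IsExtPow p (Omega.sheaf (CohB1.ProjSpace.toSpec n A)) L),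
    Nonempty (Coh.HH (CohB1.ProjSpace n A) L p ≃ₗ[A] A) := by
  induction p with
  | zero =>
    intro L hL
    obtain ⟨e⟩ := nonempty_tA_extPow_zero hL 0
    obtain ⟨e'⟩ := nonempty_tA_zero n A L
    obtain ⟨a⟩ := nonempty_linearEquiv (e ≪≫ e') 0
    obtain ⟨b⟩ := S0843.result A n 0
    exact ⟨a.symm ≪≫ₗ b ≪≫ₗ homog0⟩
  | succ p ih =>
    intro L hL
    obtain ⟨K, hK⟩ := exists_extPow_omega n A p
    obtain ⟨T, hT, e1, ⟨e3⟩, hv⟩ := exists_ses_omega hL hK 0
    have hM : ∀ q, Subsingleton (Coh.HH (CohB1.ProjSpace n A) T.X₂ q) := fun q =>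
      hv q (S0844.result A n _ q (by omega) (by omega))
    obtain ⟨e'⟩ := nonempty_tA_zero n A L
    obtain ⟨e''⟩ := nonempty_tA_zero n A K
    obtain ⟨a⟩ := nonempty_linearEquiv (eqToIso e1 ≪≫ e') (p + 1)
    obtain ⟨b⟩ := nonempty_linearEquiv (e3 ≪≫ e'') p
    obtain ⟨c⟩ := ih (by omega) K hK
    let d : Coh.HH (CohB1.ProjSpace n A) T.X₃ p ≃ₗ[A] Coh.HH (CohB1.ProjSpace n A) T.X₁ (p + 1) :=
      LinearEquiv.ofBijective (FormalB.HHLes.δ A hT p) (by
        have := hM p
        have := hM (p + 1)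
        constructor
        · rw [injective_iff_map_eq_zero]
          intro x hx
          obtain ⟨y, rfl⟩ := (FormalB.HHLes.exact_map_δ A hT p x).1 hx
          rw [Subsingleton.elim y 0, map_zero]
        · intro x
          exact (FormalB.HHLes.exact_δ_map A hT p x).1 (Subsingleton.elim _ _))
    exact ⟨a.symm ≪≫ₗ d.symm ≪≫ₗ b ≪≫ₗ c⟩

end K54.HodgePn
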