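import Groth.Agent.Coherent.K54.FibreCx

/-!
# Fibre dimensions over an affine base, from a universal complex

`fiberRank_spec`: `X` over `Spec A`, `F` quasi-coherent, `T^p ≅ H_{-p}(P ⊗ -)`:
`dim H^p(X_y, F_y) = dRank P (-p) y` for every point `y` of `Spec A`.
-/

set_option autoImplicit false
universe u

open AlgebraicGeometry CategoryTheory CategoryTheory.Limits

namespace K54.FibreSpec

open Groth.Agent Groth.Agent.Ega3B

variable {A : Type u} [CommRing A]

/-- The evaluation `A → κ(y)` for a point `y` of `Spec A`. -/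
noncomputable def ev (y : PrimeSpectrum A) : A →+* (Spec (CommRingCat.of A)).residueField y :=
  (Scheme.Spec.residueFieldIso (CommRingCat.of A) y).inv.hom.comp (algebraMap A y.asIdeal.ResidueField)

/-- The identification of residue fields. -/
noncomputable def sigma (y : PrimeSpectrum A) :
    (Spec (CommRingCat.of A)).residueField y ≃+* y.asIdeal.ResidueField :=
  (Scheme.Spec.residueFieldIso (CommRingCat.of A) y).commRingCatIsoToRingEquiv

theorem sigma_ev (y : PrimeSpectrum A) (a : A) :
    sigma y (ev y a) = algebraMap A y.asIdeal.ResidueField a :=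
  congr($((Scheme.Spec.residueFieldIso (CommRingCat.of A) y).inv_hom_id).hom
    (algebraMap A y.asIdeal.ResidueField a))

theorem exists_fraction (y : PrimeSpectrum A) (r : (Spec (CommRingCat.of A)).residueField y) :
    ∃ a s : A, ev y s ≠ 0 ∧ ev y s * r = ev y a := by
  obtain ⟨a, s, hs, h⟩ : ∃ a s : A, algebraMap A y.asIdeal.ResidueField s ≠ 0 ∧
      algebraMap A y.asIdeal.ResidueField s * sigma y r = algebraMap A y.asIdeal.ResidueField a := by
    obtain ⟨⟨a, s⟩, h⟩ := IsLocalization.surj (nonZeroDivisors (A ⧸ y.asIdeal)) (sigma y r)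
    obtain ⟨a, rfl⟩ := Ideal.Quotient.mk_surjective a
    obtain ⟨s, hs⟩ := s
    obtain ⟨s, rfl⟩ := Ideal.Quotient.mk_surjective s
    refine ⟨a, s, ?_, ?_⟩
    · have h0 := nonZeroDivisors.ne_zero hs
      intro h1
      apply h0
      apply IsFractionRing.injective (A ⧸ y.asIdeal) y.asIdeal.ResidueField
      rw [map_zero]
      exact h1
    · rw [mul_comm]
      exact h
  refine ⟨a, s, ?_, ?_⟩
  · intro h1
    apply hs
    rw [← sigma_ev, h1, map_zero]
  · apply (sigma y).injective
    rw [map_mul, sigma_ev, sigma_ev, h]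

/-- The fibre as a base change to the residue field of the prime. -/
theorem isPullback_fiber (X : Scheme.{u}) (f : X ⟶ Spec (CommRingCat.of A))
    (y : PrimeSpectrum A) :
    IsPullback (f.fiberι y)
      (f.fiberToSpecResidueField y ≫ Spec.map (Scheme.Spec.residueFieldIso (CommRingCat.of A) y).inv) f
      (Spec.map (CommRingCat.ofHom (algebraMap A y.asIdeal.ResidueField))) := by
  have h0 : IsPullback (f.fiberι y) (f.fiberToSpecResidueField y) f
    ((Spec (CommRingCat.of A)).fromSpecResidueField y) := IsPullback.of_hasPullback _ _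
  refine IsPullback.of_iso h0 (Iso.refl _) (Iso.refl _)
    (Scheme.Spec.mapIso (Scheme.Spec.residueFieldIso (CommRingCat.of A) y).symm.op) (Iso.refl _) ?_ ?_ ?_ ?_
  · simp
  · simp
    rfl
  · simp
  · rw [Iso.refl_hom, Category.comp_id]
    exact (Scheme.Spec.map_residueFieldIso_inv_eq_fromSpecResidueField (CommRingCat.of A) y).symm

theorem smul_ev (X : Scheme.{u}) (f : X ⟶ Spec (CommRingCat.of A)) (y : PrimeSpectrum A)
    (G : (f.fiber y).Modules) (p : ℕ) (a : A) (w : Coh.HH (f.fiber y) G p) :
    Coh.toGlobal (f.fiberToSpecResidueField y) (ev y a) • w =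
      Coh.toGlobal (f.fiberToSpecResidueField y ≫
        Spec.map (Scheme.Spec.residueFieldIso (CommRingCat.of A) y).inv)
        (algebraMap A y.asIdeal.ResidueField a) • w := by
  congr 1
  have h5 : (Scheme.ΓSpecIso (CommRingCat.of y.asIdeal.ResidueField)).inv ≫
      (Spec.map (Scheme.Spec.residueFieldIso (CommRingCat.of A) y).inv).appTop =
        (Scheme.Spec.residueFieldIso (CommRingCat.of A) y).inv ≫
          (Scheme.ΓSpecIso ((Spec (CommRingCat.of A)).residueField y)).inv :=
    (Scheme.ΓSpecIso_inv_naturality (Scheme.Spec.residueFieldIso (CommRingCat.of A) y).inv).symm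
  have h6 := congr($(h5).hom (algebraMap A y.asIdeal.ResidueField a))
  change (f.fiberToSpecResidueField y).appTop.hom
    ((Scheme.ΓSpecIso ((Spec (CommRingCat.of A)).residueField y)).inv.hom (ev y a)) =
    (f.fiberToSpecResidueField y ≫
      Spec.map (Scheme.Spec.residueFieldIso (CommRingCat.of A) y).inv).appTop.hom
        ((Scheme.ΓSpecIso (CommRingCat.of y.asIdeal.ResidueField)).inv.hom
          (algebraMap A y.asIdeal.ResidueField a))
  rw [Scheme.Hom.comp_appTop]
  exact congrArg (f.fiberToSpecResidueField y).appTop.hom h6.symm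

theorem fiberRank_spec (X : Scheme.{u}) [X.Over (Spec (CommRingCat.of A))] (F : X.Modules)
    (hF : Coh.IsQCoh F) (P : ChainComplex (ModuleCat.{u} A) ℤ) (p : ℕ)
    (hP : Module.Finite A (P.X (-(p : ℤ))))
    (hT : Nonempty (CohIII.tensorAFunctor A F ⋙ CohIII.HAb X p ≅
        CohIII.TFun P (-(p : ℤ)) ⋙ forget₂ (ModuleCat.{u} A) AddCommGrpCat.{u}))
    (y : Spec (CommRingCat.of A)) :
    Module.Finite ((Spec (CommRingCat.of A)).residueField y)
      (CohIII.fiberH (X ↘ Spec (CommRingCat.of A)) F y p) ∧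
    CohIII.fiberRank (X ↘ Spec (CommRingCat.of A)) F p y = CohIII.dRank P (-(p : ℤ)) y := by
  obtain ⟨e1, he1⟩ := FibreCmp.exists_cmp ((X ↘ Spec (CommRingCat.of A)).fiberι y) _
    (isPullback_fiber X (X ↘ Spec (CommRingCat.of A)) y) F hF p
  obtain ⟨e'⟩ := hT
  let z : PrimeSpectrum A := y
  refine FibreRank.finrank_eq_dRank (K := (Spec (CommRingCat.of A)).residueField y)
    P (-(p : ℤ)) z (ev z) (sigma z) (sigma_ev z)
    (exists_fraction z) (e1.trans (e'.app (ModuleCat.of A z.asIdeal.ResidueField)).addCommGroupIsoToAddEquiv) ?_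
  intro a w
  have h1 := e'.hom.naturality (a • 𝟙 (ModuleCat.of A z.asIdeal.ResidueField))
  have h2 := congr($(h1) (e1 w))
  have h3 := he1 (algebraMap A z.asIdeal.ResidueField a) w
  rw [FibreCmp.mulB_algebraMap] at h3
  have h4 : e1 (ev z a • w) = _ := congrArg e1 (smul_ev X _ z _ p a w)
  refine (congrArg (e'.hom.app _).hom (h4.trans h3)).trans h2

end K54.FibreSpec
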