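import Groth.Agent.Coherent.K50.Restr
import Groth.Agent.PerfC.FlasquePush
import Groth.Agent.PerfC.ExtZero2
import Groth.Agent.Dcoh.DerSch
import Groth.Agent.Dcoh.DualFLF
import Groth.Agent.Dcoh.MonPull292
import Groth.Prelude.Def_ModSite2

/-!
# Relative Ext sheaves: the right derived functors of `Phi f F = Hom(F, -) ⋙ f_*`

* `rdIso`: the frozen functor `ModSite.sheafHom F ⋙ f_*` and its derived functors.
* `resIso`: restriction to opens of the target.
* `isFlasqueMod_homSheaf`: `Hom(F, I)` is flasque for `I` injective; `isZero_Rpush_phi`.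
* `phiTensorRight`: `Phi f (F ⊗ L) = (- ⊗ L') ⋙ Phi f F` for an exact pairing `(L, L')`.
* `phiPull`: `(f^* N ⊗ -) ⋙ Phi f F = Phi f F ⋙ (N ⊗ -)`.
-/

set_option autoImplicit false
universe u

open CategoryTheory CategoryTheory.Limits AlgebraicGeometry Opposite TopologicalSpace MonoidalCategory

namespace K54.RelExt

open K50.SectOn K50.Restr Groth.Agent Groth.Agent.Dcoh.MonClosed Groth.Agent.CohqB.HomSheaf
open Groth.Agent.PerfC.ExtZero Groth.Agent.PerfC.FlasquePush
open scoped Groth.Agent.Dcoh.MonCat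

variable {X Y Z : Scheme.{u}}

/-- `f_* Hom(F, -)`. -/
noncomputable abbrev Phi (f : X ⟶ Y) (F : X.Modules) : X.Modules ⥤ Y.Modules :=
  homFunctor F ⋙ Scheme.Modules.pushforward f

/-- The left adjoint of `f_* Hom(F, -)`. -/
noncomputable def phiAdj (f : X ⟶ Y) (F : X.Modules) :
    Scheme.Modules.pullback f ⋙ tensorRight F ⊣ Phi f F :=
  (Scheme.Modules.pullbackPushforwardAdjunction f).comp (tensorRightHomAdj F)

instance preservesFiniteLimits_phi (f : X ⟶ Y) (F : X.Modules) : PreservesFiniteLimits (Phi f F) := by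
  have := (phiAdj f F).rightAdjoint_preservesLimits
  exact PreservesLimits.preservesFiniteLimits _

instance additive_phi (f : X ⟶ Y) (F : X.Modules) : (Phi f F).Additive :=
  Functor.additive_of_preserves_binary_products _

/-- The frozen functor. -/
noncomputable def phiIso (f : X ⟶ Y) (F : X.Modules) [ModSite.HasSheafHom (O := X.sheaf) F] :
    ModSite.sheafHom (O := X.sheaf) F ⋙ Scheme.Modules.pushforward f ≅ Phi f F :=
  Functor.isoWhiskerRight (K50.SectOn.sheafHomIso F) _

/-- Isomorphic functors have isomorphic right derived functors. -/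
noncomputable def derIso {C D : Type*} [Category* C] [Category* D] [Abelian C] [Abelian D]
    [HasInjectiveResolutions C] {S T : C ⥤ D} [S.Additive] [T.Additive] (e : S ≅ T) (n : ℕ) :
    S.rightDerived n ≅ T.rightDerived n where
  hom := NatTrans.rightDerived e.hom n
  inv := NatTrans.rightDerived e.inv n
  hom_inv_id := by rw [← NatTrans.rightDerived_comp, e.hom_inv_id, NatTrans.rightDerived_id]
  inv_hom_id := by rw [← NatTrans.rightDerived_comp, e.inv_hom_id, NatTrans.rightDerived_id]

/-- The right derived functors of the frozen functor. -/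
theorem nonempty_rdIso (f : X ⟶ Y) (F M : X.Modules) [ModSite.HasSheafHom (O := X.sheaf) F]
    [HasInjectiveResolutions (ModSite.Mod X.sheaf)] [hX : HasInjectiveResolutions X.Modules]
    [(ModSite.sheafHom (O := X.sheaf) F ⋙ Scheme.Modules.pushforward f).Additive] (p : ℕ) :
    Nonempty (((ModSite.sheafHom (O := X.sheaf) F ⋙ Scheme.Modules.pushforward f).rightDerived p).obj M ≅
      ((Phi f F).rightDerived p).obj M) := by
  let S : X.Modules ⥤ Y.Modules := ModSite.sheafHom (O := X.sheaf) F ⋙ Scheme.Modules.pushforward f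
  have hS : S.Additive :=
    ‹(ModSite.sheafHom (O := X.sheaf) F ⋙ Scheme.Modules.pushforward f).Additive›
  let e : S ≅ Phi f F := phiIso f F
  exact ⟨(derIso e p).app M⟩

section Res

/-- Restriction to an open of the target. -/
noncomputable def phiRes (f : X ⟶ Y) (F : X.Modules) (W : Y.Opens) :
    Phi f F ⋙ Scheme.Modules.restrictFunctor W.ι ≅
      Scheme.Modules.restrictFunctor (f ⁻¹ᵁ W).ι ⋙ Phi (f ∣_ W) (F.restrict (f ⁻¹ᵁ W).ι) :=
  Functor.associator _ _ _ ≪≫
    Functor.isoWhiskerLeft (homFunctor F) (CohqA.PushRes.iso (isPullback_morphismRestrict f W)) ≪≫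
    (Functor.associator _ _ _).symm ≪≫
    Functor.isoWhiskerRight (homRes (f ⁻¹ᵁ W).ι F) _ ≪≫ Functor.associator _ _ _

/-- Relative Ext and restriction to an open of the target. -/
theorem nonempty_res (f : X ⟶ Y) (W : Y.Opens) (F G : X.Modules) (p : ℕ)
    [HasInjectiveResolutions X.Modules] [HasInjectiveResolutions (f ⁻¹ᵁ W).toScheme.Modules] :
    Nonempty ((Scheme.Modules.restrictFunctor W.ι).obj (((Phi f F).rightDerived p).obj G) ≅
      ((Phi (f ∣_ W) (F.restrict (f ⁻¹ᵁ W).ι)).rightDerived p).obj (G.restrict (f ⁻¹ᵁ W).ι)) :=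
  ⟨(CohqA.DerComp.compIso (phiRes f F W) p).app G⟩

end Res

section Flasque

theorem image_le (U : X.Opens) (W : U.toScheme.Opens) : U.ι ''ᵁ W ≤ U := by
  rintro _ ⟨y, _, rfl⟩
  exact y.2

/-- The morphism `F|_U ⟶ N|_U` given by a section over `U` of the sheaf Hom. -/
noncomputable def secHom {F N : X.Modules} {U : X.Opens} (s : Γ(homSheaf F N, U)) :
    F.restrict U.ι ⟶ N.restrict U.ι :=
  homMkSec _ _ (fun W =>
    { toFun := fun m => comp s (U.ι ''ᵁ W) (image_le U W) (show Γ(F, U.ι ''ᵁ W) from m)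
      map_zero' := map_zero (comp s (U.ι ''ᵁ W) (image_le U W))
      map_add' := fun m m' => map_add (comp s (U.ι ''ᵁ W) (image_le U W)) _ _ })
    (fun W r m => map_smul (comp s (U.ι ''ᵁ W) (image_le U W)) ((U.ι.appIso W).inv r)
      (show Γ(F, U.ι ''ᵁ W) from m))
    (fun W W' h m => comp_map s (image_le U W) (U.ι.image_mono h) _)

theorem secHom_app {F N : X.Modules} {U : X.Opens} (s : Γ(homSheaf F N, U)) (W : U.toScheme.Opens)
    (m : Γ(F, U.ι ''ᵁ W)) :
    (secHom s).app W m = comp s (U.ι ''ᵁ W) (image_le U W) m := rfl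

/-- A morphism over an open, with injective target, extends. -/
theorem exists_extend_hom (F I : X.Modules) [Injective I] (U : X.Opens)
    (φ : F.restrict U.ι ⟶ I.restrict U.ι) :
    ∃ ψ : F ⟶ I, (Scheme.Modules.restrictFunctor U.ι).map ψ = φ := by
  let θ : (jShriek U.ι).obj (F.restrict U.ι) ⟶ I := (jShriek U.ι).map φ ≫ counitApp U.ι I
  refine ⟨Injective.factorThru θ (counitApp U.ι F), ?_⟩
  have h1 := congrArg (Scheme.Modules.restrictFunctor U.ι).map
    (Injective.comp_factorThru θ (counitApp U.ι F))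
  rw [Functor.map_comp, Functor.map_comp, restrict_counitApp, restrict_counitApp] at h1
  exact (cancel_epi (unitInvApp U.ι (F.restrict U.ι))).1
    (h1.trans (unitInvApp_naturality U.ι φ))

/-- The sheaf Hom into an injective module is flasque. -/
theorem isFlasqueMod_homSheaf (F I : X.Modules) [Injective I] : IsFlasqueMod (homSheaf F I) := by
  rw [isFlasqueMod_iff]
  intro U V h s
  obtain ⟨ψ, hψ⟩ := exists_extend_hom F I U (secHom s)
  refine ⟨ofHom ψ V, ?_⟩
  refine (map_ofHom ψ h).trans ?_
  apply sec_ext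
  intro W hW m
  have key : ∀ (W : X.Opens) (W' : U.toScheme.Opens) (_ : W = U.ι ''ᵁ W') (hW : W ≤ U) (m : Γ(F, W)),
      comp (ofHom ψ U) W hW m = comp s W hW m := by
    rintro _ W' rfl hW m
    exact congrArg (fun χ : F.restrict U.ι ⟶ I.restrict U.ι => χ.app W' m) hψ
  exact key W (U.ι ⁻¹ᵁ W) (by
    rw [Scheme.Hom.image_preimage_eq_opensRange_inf, Scheme.Opens.opensRange_ι]
    exact (inf_eq_right.2 hW).symm) hW m

theorem isFlasqueMod_push (f : X ⟶ Y) {M : X.Modules} (hM : IsFlasqueMod M) :
    IsFlasqueMod ((Scheme.Modules.pushforward f).obj M) := by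
  rw [isFlasqueMod_iff] at hM ⊢
  intro U V h
  exact hM (f ⁻¹ᵁ U) (f ⁻¹ᵁ V) (f.preimage_mono h)

/-- `f_* Hom(F, I)` is acyclic for direct images. -/
theorem isZero_Rpush_phi (f : X ⟶ Y) (g : Y ⟶ Z) [HasInjectiveResolutions Y.Modules]
    (F I : X.Modules) (hI : Injective I) (q : ℕ) (hq : 0 < q) :
    IsZero ((Coh.Rpush g q).obj ((Phi f F).obj I)) :=
  isZero_Rpush g _ (isFlasqueMod_push f (isFlasqueMod_homSheaf F I)) q hq

end Flasque

section Tensor

/-- `Hom(F ⊗ L, -) = Hom(F, - ⊗ L')` for an exact pairing `(L, L')`. -/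
noncomputable def phiTensor (f : X ⟶ Y) (F L L' : X.Modules) [ExactPairing L L'] :
    Phi f (F ⊗ L) ≅ tensorRight L' ⋙ Phi f F :=
  Adjunction.rightAdjointUniq (phiAdj f (F ⊗ L))
    (((phiAdj f F).comp (tensorRightAdjunction L L')).ofNatIsoLeft
      (Functor.associator _ _ _ ≪≫
        Functor.isoWhiskerLeft (Scheme.Modules.pullback f) (tensorRightTensor F L).symm))

/-- `Hom(L, -) = - ⊗ L'` for an exact pairing `(L, L')`. -/
noncomputable def homIso (L L' : X.Modules) [ExactPairing L L'] : homFunctor L ≅ tensorRight L' :=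
  Adjunction.rightAdjointUniq (tensorRightHomAdj L) (tensorRightAdjunction L L')

/-- `P ⊗ Hom(F, -) = Hom(F, P ⊗ -)` for an exact pairing `(P, P')`. -/
noncomputable def homTensor (F P P' : X.Modules) [ExactPairing P P'] :
    homFunctor F ⋙ tensorLeft P ≅ tensorLeft P ⋙ homFunctor F :=
  Adjunction.rightAdjointUniq ((tensorLeftAdjunction P P').comp (tensorRightHomAdj F))
    (((tensorRightHomAdj F).comp (tensorLeftAdjunction P P')).ofNatIsoLeft
      (NatIso.ofComponents (fun T => (α_ P' T F).symm) (fun φ => by simp)))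

/-- `N ⊗ f_* Hom(F, -) = f_* Hom(F, f^* N ⊗ -)` for an exact pairing `(N, N')`. -/
noncomputable def phiPull (f : X ⟶ Y) (F : X.Modules) (N N' : Y.Modules) [ExactPairing N N'] :
    Phi f F ⋙ tensorLeft N ≅ tensorLeft ((Scheme.Modules.pullback f).obj N) ⋙ Phi f F :=
  let _ := Dcoh.MonPull.monPull f
  let _ := Dcoh.MonDual.mapExactPairing (Scheme.Modules.pullback f) N N'
  Functor.associator _ _ _ ≪≫
    Functor.isoWhiskerLeft (homFunctor F)
      (Dcoh.MonDual.projectionIso (Scheme.Modules.pullbackPushforwardAdjunction f) N N') ≪≫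
    (Functor.associator _ _ _).symm ≪≫
    Functor.isoWhiskerRight (homTensor F ((Scheme.Modules.pullback f).obj N)
      ((Scheme.Modules.pullback f).obj N')) _ ≪≫ Functor.associator _ _ _

end Tensor

section Derived

/-- Tensoring with a dualizable module: exactness and injectives. -/
theorem tensorLeft_good (P P' : X.Modules) [ExactPairing P P'] :
    (tensorLeft P).Additive ∧ PreservesFiniteLimits (tensorLeft P) ∧
      PreservesFiniteColimits (tensorLeft P) ∧ (tensorLeft P).PreservesInjectiveObjects := by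
  have h1 := Dcoh.MonDual.isRightAdjoint_tensorLeft P P'
  have h2 := Dcoh.MonDual.isLeftAdjoint_tensorLeft P P'
  have h3 := (Adjunction.ofIsRightAdjoint (tensorLeft P)).rightAdjoint_preservesLimits
  have h4 := (Adjunction.ofIsLeftAdjoint (tensorLeft P)).leftAdjoint_preservesColimits
  have h5 : PreservesFiniteLimits (tensorLeft P) := PreservesLimits.preservesFiniteLimits _
  exact ⟨Functor.additive_of_preserves_binary_products _, h5,
    PreservesColimits.preservesFiniteColimits _,
    ⟨fun {I} _ => Dcoh.MonDual.injective_tensorLeft P P' I⟩⟩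

theorem tensorRight_good (P P' : X.Modules) [ExactPairing P P'] :
    (tensorRight P).Additive ∧ PreservesFiniteLimits (tensorRight P) ∧
      PreservesFiniteColimits (tensorRight P) ∧ (tensorRight P).PreservesInjectiveObjects := by
  obtain ⟨h1, h2, h3, h4⟩ := tensorLeft_good P P'
  let e : tensorLeft P ≅ tensorRight P := BraidedCategory.tensorLeftIsoTensorRight P
  refine ⟨Functor.additive_of_iso e, preservesFiniteLimits_of_natIso e,
    preservesFiniteColimits_of_natIso e, ⟨fun {I} _ => ?_⟩⟩
  have := Dcoh.MonDual.injective_tensorLeft P P' I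
  exact Injective.of_iso (e.app I) this

variable [HasInjectiveResolutions X.Modules]

/-- Relative Ext of a tensor product by a dualizable module in the first variable. -/
theorem nonempty_tensor_left (f : X ⟶ Y) (F L L' M : X.Modules) [ExactPairing L L'] (p : ℕ) :
    Nonempty (((Phi f (F ⊗ L)).rightDerived p).obj M ≅ ((Phi f F).rightDerived p).obj (M ⊗ L')) := by
  let _ := BraidedCategory.exactPairing_swap L L'
  obtain ⟨h1, h2, h3, h4⟩ := tensorRight_good L' L
  exact ⟨(derIso (phiTensor f F L L') p).app M ≪≫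
    (CohqA.DerComp.compIso (F := tensorRight L' ⋙ Phi f F) (F' := Phi f F) (a := tensorRight L')
      (b := 𝟭 _) (Functor.rightUnitor _) p).app M⟩

/-- Relative Ext of a tensor product with the pullback of a dualizable module in the second variable. -/
theorem nonempty_tensor_pull (f : X ⟶ Y) (F G : X.Modules) (N N' : Y.Modules) [ExactPairing N N']
    (p : ℕ) :
    Nonempty (N ⊗ ((Phi f F).rightDerived p).obj G ≅
      ((Phi f F).rightDerived p).obj ((Scheme.Modules.pullback f).obj N ⊗ G)) := by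
  let _ := Dcoh.MonPull.monPull f
  let _ := Dcoh.MonDual.mapExactPairing (Scheme.Modules.pullback f) N N'
  obtain ⟨h1, h2, h3, h4⟩ := tensorLeft_good ((Scheme.Modules.pullback f).obj N)
    ((Scheme.Modules.pullback f).obj N')
  obtain ⟨k1, k2, k3, -⟩ := tensorLeft_good N N'
  exact ⟨(CohqA.DerComp.compIso (F := Phi f F) (F' := Phi f F)
      (a := tensorLeft ((Scheme.Modules.pullback f).obj N)) (b := tensorLeft N)
      (phiPull f F N N') p).app G⟩

end Derived

/-- The statement S16282, for given exact pairings. -/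
theorem nonempty_main (f : X ⟶ Y) (F G L : X.Modules) (N : Y.Modules) (L' : X.Modules)
    (N' : Y.Modules) [ExactPairing L L'] [ExactPairing N N'] (p : ℕ)
    [ModSite.HasSheafHom (O := X.sheaf) F] [ModSite.HasSheafHom (O := X.sheaf) L]
    [ModSite.HasSheafHom (O := X.sheaf) (CohB1.tensorMod F L)]
    [HasInjectiveResolutions (ModSite.Mod X.sheaf)]
    [(ModSite.sheafHom (O := X.sheaf) F ⋙ Scheme.Modules.pushforward f).Additive]
    [(ModSite.sheafHom (O := X.sheaf) (CohB1.tensorMod F L) ⋙ Scheme.Modules.pushforward f).Additive] :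
    Nonempty (((ModSite.sheafHom (O := X.sheaf) (CohB1.tensorMod F L) ⋙
        Scheme.Modules.pushforward f).rightDerived p).obj
        (CohB1.tensorMod G ((Scheme.Modules.pullback f).obj N)) ≅
      CohB1.tensorMod (((ModSite.sheafHom (O := X.sheaf) F ⋙
        Scheme.Modules.pushforward f).rightDerived p).obj
        (CohB1.tensorMod G ((ModSite.sheafHom (O := X.sheaf) L).obj (Coh.structureModule X)))) N) := by
  have hX : HasInjectiveResolutions X.Modules := ‹HasInjectiveResolutions (ModSite.Mod X.sheaf)›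
  let P : X.Modules := (Scheme.Modules.pullback f).obj N
  obtain ⟨e1⟩ := nonempty_tensor_left f F L L' (G ⊗ P) p
  obtain ⟨e2⟩ := nonempty_tensor_pull f F (G ⊗ L') N N' p
  let e3 : (G ⊗ P) ⊗ L' ≅ P ⊗ (G ⊗ L') :=
    whiskerRightIso (β_ G P) L' ≪≫ α_ P G L'
  let D : X.Modules := (ModSite.sheafHom (O := X.sheaf) L).obj (Coh.structureModule X)
  let e4 : D ≅ L' :=
    ((K50.SectOn.sheafHomIso L).app _) ≪≫ (homIso L L').app _ ≪≫ λ_ L'
  let e5 : G ⊗ D ≅ G ⊗ L' := whiskerLeftIso G e4
  obtain ⟨e6⟩ := nonempty_rdIso f (CohB1.tensorMod F L) (CohB1.tensorMod G P) p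
  obtain ⟨e7⟩ := nonempty_rdIso f F (CohB1.tensorMod G D) p
  exact ⟨e6 ≪≫ e1 ≪≫ ((Phi f F).rightDerived p).mapIso e3 ≪≫ e2.symm ≪≫ β_ _ _ ≪≫
    whiskerRightIso (((Phi f F).rightDerived p).mapIso e5.symm ≪≫ e7.symm) N⟩

end K54.RelExt
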