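import Groth.Agent.Coherent.K53.LfResMod
import Groth.Agent.Coherent.K54.RelExt

/-!
# Acyclic resolutions in the first variable compute relative Ext

`Ro T P M = Hom(M, -) ⋙ P` for a left exact `P` which is exact on short exact sequences with kernel
`Hom(M, I)`, `I` injective: `complexIso`.
-/

set_option autoImplicit false
universe v u v' u'

open CategoryTheory CategoryTheory.Limits K53.LfRes

namespace K54.AcycRes

variable {A : Type u} [Category.{v} A] [Abelian A] {B : Type u'} [Category.{v'} B] [Abelian B]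
  (T : A ⥤ A ⥤ A) [∀ M, (T.flip.obj M).IsLeftAdjoint] (P : A ⥤ B)

/-- `Hom(M, -) ⋙ P`. -/
noncomputable abbrev Ro (M : A) : A ⥤ B := Ho T M ⋙ P

/-- Contravariant functoriality. -/
noncomputable abbrev Rm {M' M : A} (g : M' ⟶ M) : Ro T P M ⟶ Ro T P M' :=
  Functor.whiskerRight (Hm T g) P

theorem Rm_comp_app {M'' M' M : A} (f : M'' ⟶ M') (g : M' ⟶ M) (G : A) :
    (Rm T P (f ≫ g)).app G = (Rm T P g).app G ≫ (Rm T P f).app G := by
  have h := congrArg (fun t => t.app G) (Hm_comp T f g)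
  exact (congrArg P.map h).trans (P.map_comp _ _)

variable [∀ N, PreservesFiniteColimits (T.obj N)] [P.Additive] [PreservesFiniteLimits P]

theorem mono_Rm {M' M : A} (g : M' ⟶ M) [Epi g] (G : A) : Mono ((Rm T P g).app G) := by
  have := mono_Hm T g G
  exact inferInstanceAs (Mono (P.map ((Hm T g).app G)))

theorem Rm_comp_zero {M'' M' M : A} (f : M'' ⟶ M') (g : M' ⟶ M) (w : f ≫ g = 0) (G : A) :
    (Rm T P g).app G ≫ (Rm T P f).app G = 0 := by
  change P.map _ ≫ P.map _ = 0
  rw [← P.map_comp, Hm_comp_zero T f g w G, P.map_zero]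

theorem exact_Rm {S : ShortComplex A} (hS : S.Exact) [Epi S.g] (G : A) :
    (ShortComplex.mk ((Rm T P S.g).app G) ((Rm T P S.f).app G) (Rm_comp_zero T P _ _ S.zero G)).Exact := by
  have h := exact_Hm T hS G
  have hm : Mono ((Hm T S.g).app G) := mono_Hm T S.g G
  exact h.map_of_mono_of_preservesKernel P hm inferInstance

section Main

variable [HasInjectiveResolutions A]
  (hfl : ∀ N : A, ∃ (Q : A) (π : Q ⟶ N), Epi π ∧ (T.obj Q).PreservesMonomorphisms)
  (hP : ∀ (S : ShortComplex A) (M I : A), Injective I → S.ShortExact → S.X₁ = (Ho T M).obj I →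
    (S.map P).ShortExact)

include hfl hP in
theorem shortExact_Rm {S : ShortComplex A} (hS : S.ShortExact) (I : A) (hI : Injective I) :
    (ShortComplex.mk ((Rm T P S.g).app I) ((Rm T P S.f).app I) (Rm_comp_zero T P _ _ S.zero I)).ShortExact :=
  hP _ S.X₃ I hI (shortExact_Hm T hfl hS I hI) rfl

variable [∀ M, (T.flip.obj M).Additive]

include hfl hP in
theorem main (G : A) (j : ℕ) : ∀ (E : ℕ → A) (d : ∀ j, E (j + 1) ⟶ E j) (F : A) (π : E 0 ⟶ F) (_ : Epi π)
    (w0 : d 0 ≫ π = 0) (w : ∀ j, d (j + 1) ≫ d j = 0) (_ : (ShortComplex.mk (d 0) π w0).Exact)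
    (_ : ∀ j, (ShortComplex.mk (d (j + 1)) (d j) (w j)).Exact)
    (_ : ∀ j i, IsZero (((Ro T P (E j)).rightDerived (i + 1)).obj G)),
    Nonempty ((ShortComplex.mk ((Rm T P (d j)).app G) ((Rm T P (d (j + 1))).app G)
      (Rm_comp_zero T P _ _ (w j) G)).homology ≅ ((Ro T P F).rightDerived (j + 1)).obj G) := by
  induction j with
  | zero =>
    intro E d F π _ w0 w h0 h hz
    let S : ShortComplex A := ShortComplex.mk (kernel.ι π) π (kernel.condition π)
    have hS : S.ShortExact := { exact := ShortComplex.exact_kernel π }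
    let ψ : E 1 ⟶ kernel π := kernel.lift π (d 0) w0
    have hψι : ψ ≫ kernel.ι π = d 0 := kernel.lift_ι _ _ _
    have hψ : Epi ψ := h0.epi_kernelLift
    have wψ : d 1 ≫ ψ = 0 := by
      rw [← cancel_mono (kernel.ι π), Category.assoc, hψι, w 0, zero_comp]
    have hex : (ShortComplex.mk (d 1) ψ wψ).Exact := by
      have := (ShortComplex.exact_iff_of_epi_of_isIso_of_mono
        (S₁ := ShortComplex.mk (d 1) ψ wψ) (S₂ := ShortComplex.mk (d 1) (d 0) (w 0))
        { τ₁ := 𝟙 _, τ₂ := 𝟙 _, τ₃ := kernel.ι π, comm₁₂ := by simp, comm₂₃ := by simp [hψι] })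
      exact this.2 (h 0)
    have hz' := Rm_comp_zero T P _ _ S.zero
    let α := Rm T P π
    let β := Rm T P (kernel.ι π)
    have hse := fun I (hI : Injective I) => shortExact_Rm T P hfl hP hS I hI
    have e1 := Groth.Agent.Sga4h.FunLES.exact₀ α β hz' hse G
    have e2 : Epi (Groth.Agent.Sga4h.FunLES.δ₀ α β hz' hse G) :=
      Groth.Agent.Sga4h.FunLES.epi_δ₀ α β hz' hse G (hz 0 0)
    have m1 : Mono ((Rm T P ψ).app G) := mono_Rm T P ψ G
    have e3 := exact_Rm T P hex G
    have hf : (Rm T P (d 0)).app G = β.app G ≫ (Rm T P ψ).app G := by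
      rw [← Rm_comp_app, hψι]
    let hK : IsLimit (KernelFork.ofι ((Rm T P ψ).app G) (Rm_comp_zero T P _ _ wψ G) :
      KernelFork ((Rm T P (d 1)).app G)) := e3.fIsKernel
    let data : (ShortComplex.mk ((Rm T P (d 0)).app G) ((Rm T P (d 1)).app G)
      (Rm_comp_zero T P _ _ (w 0) G)).LeftHomologyData :=
      { K := (Ro T P (kernel π)).obj G
        H := ((Ro T P F).rightDerived 1).obj G
        i := (Rm T P ψ).app G
        π := Groth.Agent.Sga4h.FunLES.δ₀ α β hz' hse G
        wi := Rm_comp_zero T P _ _ wψ G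
        hi := hK
        wπ := by
          have : hK.lift (KernelFork.ofι ((Rm T P (d 0)).app G) (Rm_comp_zero T P _ _ (w 0) G)) = β.app G := by
            rw [← cancel_mono ((Rm T P ψ).app G), ← hf]
            exact hK.fac _ WalkingParallelPair.zero
          exact (congrArg (· ≫ _) this).trans (Groth.Agent.Sga4h.FunLES.comp_δ₀ α β hz' hse G)
        hπ := by
          have : hK.lift (KernelFork.ofι ((Rm T P (d 0)).app G) (Rm_comp_zero T P _ _ (w 0) G)) = β.app G := by
            rw [← cancel_mono ((Rm T P ψ).app G), ← hf]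
            exact hK.fac _ WalkingParallelPair.zero
          exact (CokernelCofork.isColimitOfIsColimitOfIff' e1.gIsCokernel _ (fun _ φ => by
            change _ ↔ hK.lift _ ≫ φ = 0
            rw [this])) }
    exact ⟨data.homologyIso⟩
  | succ j ih =>
    intro E d F π _ w0 w h0 h hz
    let S : ShortComplex A := ShortComplex.mk (kernel.ι π) π (kernel.condition π)
    have hS : S.ShortExact := { exact := ShortComplex.exact_kernel π }
    let ψ : E 1 ⟶ kernel π := kernel.lift π (d 0) w0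
    have hψι : ψ ≫ kernel.ι π = d 0 := kernel.lift_ι _ _ _
    have hψ : Epi ψ := h0.epi_kernelLift
    have wψ : d 1 ≫ ψ = 0 := by
      rw [← cancel_mono (kernel.ι π), Category.assoc, hψι, w 0, zero_comp]
    have hex : (ShortComplex.mk (d 1) ψ wψ).Exact := by
      have := (ShortComplex.exact_iff_of_epi_of_isIso_of_mono
        (S₁ := ShortComplex.mk (d 1) ψ wψ) (S₂ := ShortComplex.mk (d 1) (d 0) (w 0))
        { τ₁ := 𝟙 _, τ₂ := 𝟙 _, τ₃ := kernel.ι π, comm₁₂ := by simp, comm₂₃ := by simp [hψι] })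
      exact this.2 (h 0)
    obtain ⟨e⟩ := ih (fun k => E (k + 1)) (fun k => d (k + 1)) (kernel π) ψ hψ wψ (fun k => w (k + 1)) hex
      (fun k => h (k + 1)) (fun k i => hz (k + 1) i)
    have hse := fun I (hI : Injective I) => shortExact_Rm T P hfl hP hS I hI
    have := Groth.Agent.Sga4h.FunLES.isIso_δ (Rm T P π) (Rm T P (kernel.ι π)) (Rm_comp_zero T P _ _ S.zero) hse G
      (j + 1) (hz 0 j) (hz 0 (j + 1))
    exact ⟨e ≪≫ asIso (Groth.Agent.Sga4h.FunLES.δ (Rm T P π) (Rm T P (kernel.ι π)) (Rm_comp_zero T P _ _ S.zero)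
      hse G (j + 1))⟩

include hfl hP in
/-- The complex form. -/
theorem complexIso (G : A) (E : ChainComplex A ℕ) (F : A) (π : E.X 0 ⟶ F) [Epi π] (w0 : E.d 1 0 ≫ π = 0)
    (h0 : (ShortComplex.mk (E.d 1 0) π w0).Exact) (h : ∀ j, E.ExactAt (j + 1))
    (hz : ∀ j i, IsZero (((Ro T P (E.X j)).rightDerived (i + 1)).obj G))
    (C : CochainComplex B ℕ) (e : ∀ j, C.X j ≅ (Ro T P (E.X j)).obj G)
    (hC : ∀ j, C.d j (j + 1) ≫ (e (j + 1)).hom = (e j).hom ≫ (Rm T P (E.d (j + 1) j)).app G) (i : ℕ) :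
    Nonempty (C.homology i ≅ ((Ro T P F).rightDerived i).obj G) := by
  rcases i with _ | i
  · have e0 : (Ro T P F).obj G ≅ ((Ro T P F).rightDerived 0).obj G :=
      asIso ((Ro T P F).toRightDerivedZero.app G)
    have e1 := exact_Rm T P h0 G
    have m1 : Mono ((Rm T P π).app G) := mono_Rm T P π G
    have hk := e1.fIsKernel
    -- the kernel of `C.d 0 1`
    have hd : C.d 0 1 = (e 0).hom ≫ (Rm T P (E.d 1 0)).app G ≫ (e 1).inv := by
      rw [← Category.assoc, ← hC 0, Category.assoc, Iso.hom_inv_id, Category.comp_id]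
    have a1 : C.homology 0 ≅ C.cycles 0 := (CochainComplex.isoHomologyπ₀ C).symm
    let k : (Ro T P F).obj G ⟶ C.X 0 := (Rm T P π).app G ≫ (e 0).inv
    have hkd : k ≫ C.d 0 1 = 0 := by
      change ((Rm T P π).app G ≫ (e 0).inv) ≫ C.d 0 1 = 0
      rw [hd, Category.assoc, Iso.inv_hom_id_assoc, ← Category.assoc, Rm_comp_zero T P _ _ w0, zero_comp]
    let l : (Ro T P F).obj G ⟶ C.cycles 0 := C.liftCycles k 1 (by simp) hkd
    have hl : l ≫ C.iCycles 0 = k := C.liftCycles_i _ _ _ _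
    have hlm : Mono l := by
      have : Mono (l ≫ C.iCycles 0) := by
        rw [hl]
        infer_instance
      exact mono_of_mono l (C.iCycles 0)
    have hle : Epi l := by
      let r : C.cycles 0 ⟶ (Ro T P F).obj G := e1.lift (C.iCycles 0 ≫ (e 0).hom) (by
        change (C.iCycles 0 ≫ (e 0).hom) ≫ (Rm T P (E.d 1 0)).app G = 0
        rw [Category.assoc, ← hC 0, HomologicalComplex.iCycles_d_assoc, zero_comp])
      have hr : r ≫ (Rm T P π).app G = C.iCycles 0 ≫ (e 0).hom := e1.lift_f _ _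
      have : r ≫ l = 𝟙 _ := by
        rw [← cancel_mono (C.iCycles 0), Category.assoc, hl, Category.id_comp]
        change r ≫ (Rm T P π).app G ≫ (e 0).inv = _
        rw [← Category.assoc, hr, Category.assoc, Iso.hom_inv_id, Category.comp_id]
      exact (SplitEpi.mk r this).epi
    have hli : IsIso l := isIso_of_mono_of_epi l
    exact ⟨a1 ≪≫ (asIso l).symm ≪≫ e0⟩
  · have w : ∀ j, E.d (j + 1 + 1) (j + 1) ≫ E.d (j + 1) j = 0 := fun j => E.d_comp_d _ _ _
    have hex : ∀ j, (ShortComplex.mk (E.d (j + 1 + 1) (j + 1)) (E.d (j + 1) j) (w j)).Exact := fun j => by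
      have := h j
      rw [HomologicalComplex.exactAt_iff' E (j + 1 + 1) (j + 1) j (by simp) (by simp)] at this
      exact this
    obtain ⟨a⟩ := main T P hfl hP G i (fun j => E.X j) (fun j => E.d (j + 1) j) F π inferInstance w0 w h0 hex hz
    have b : C.homology (i + 1) ≅ (C.sc' i (i + 1) (i + 1 + 1)).homology :=
      ShortComplex.homologyMapIso (C.isoSc' i (i + 1) (i + 1 + 1) (by simp) (by simp))
    have c : C.sc' i (i + 1) (i + 1 + 1) ≅ ShortComplex.mk ((Rm T P (E.d (i + 1) i)).app G)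
      ((Rm T P (E.d (i + 1 + 1) (i + 1))).app G) (Rm_comp_zero T P _ _ (w i) G) :=
      ShortComplex.isoMk (e i) (e (i + 1)) (e (i + 1 + 1)) (hC i).symm (hC (i + 1)).symm
    exact ⟨b ≪≫ ShortComplex.homologyMapIso c ≪≫ a⟩

end Main

section Sch

open AlgebraicGeometry

open scoped Groth.Agent.Dcoh.MonCat

universe w

variable {X Y : Scheme.{w}}

theorem isFlasqueMod_of_iso {M N : X.Modules} (e : M ≅ N)
    (h : Groth.Agent.PerfC.FlasquePush.IsFlasqueMod M) : Groth.Agent.PerfC.FlasquePush.IsFlasqueMod N := by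
  rw [Groth.Agent.PerfC.FlasquePush.isFlasqueMod_iff] at h ⊢
  intro U V hUV y
  obtain ⟨x, hx⟩ := h U V hUV (e.inv.app U y)
  refine ⟨e.hom.app V x, ?_⟩
  have h1 : N.presheaf.map (homOfLE hUV).op (e.hom.app V x) =
      e.hom.app U (M.presheaf.map (homOfLE hUV).op x) :=
    congr($((e.hom.mapPresheaf.naturality (homOfLE hUV).op).symm) x)
  rw [h1, hx]
  exact congr($(congrArg (fun t : N ⟶ N => t.app U) e.inv_hom_id) y)

theorem isFlasqueMod_ho (M I : X.Modules) [Injective I]
    [∀ M : X.Modules, ((DCoh.tensorBi (X := X)).flip.obj M).IsLeftAdjoint] :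
    Groth.Agent.PerfC.FlasquePush.IsFlasqueMod (X := X) ((Ho (DCoh.tensorBi (X := X)) M).obj I) := by
  have : ModSite.HasSheafHom (O := X.sheaf) M := K53.LfResMod.hasSheafHom M
  exact isFlasqueMod_of_iso ((K50.SectOn.sheafHomIso M).app I).symm (K54.RelExt.isFlasqueMod_homSheaf M I)

theorem schMain (f : X ⟶ Y) (F G : X.Modules)
    (L : ChainComplex X.Modules ℕ) (π : L.X 0 ⟶ F) [Epi π] (hπ : L.d 1 0 ≫ π = 0)
    (hex0 : (ShortComplex.mk (L.d 1 0) π hπ).Exact) (hex : ∀ j : ℕ, L.ExactAt (j + 1))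
    [∀ j : ℕ, ModSite.HasSheafHom (O := X.sheaf) (L.X j)] [ModSite.HasSheafHom (O := X.sheaf) F]
    [HasInjectiveResolutions (ModSite.Mod X.sheaf)]
    [∀ j : ℕ, (ModSite.sheafHom (O := X.sheaf) (L.X j) ⋙ Scheme.Modules.pushforward f).Additive]
    [(ModSite.sheafHom (O := X.sheaf) F ⋙ Scheme.Modules.pushforward f).Additive]
    (hL : ∀ (j : ℕ) (p : ℕ), 1 ≤ p → IsZero (((ModSite.sheafHom (O := X.sheaf) (L.X j) ⋙ Scheme.Modules.pushforward f).rightDerived p).obj G))
    (C : CochainComplex Y.Modules ℕ)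
    (e : ∀ j : ℕ, C.X j ≅ (Scheme.Modules.pushforward f).obj ((ModSite.sheafHom (O := X.sheaf) (L.X j)).obj G))
    (hC : ∀ j : ℕ, C.d j (j + 1) ≫ (e (j + 1)).hom =
      (e j).hom ≫ (Scheme.Modules.pushforward f).map ((ExtSupp.sheafHomMap (O := X.sheaf) (L.d (j + 1) j)).app G))
    (i : ℕ) :
    Nonempty (C.homology i ≅ ((ModSite.sheafHom (O := X.sheaf) F ⋙ Scheme.Modules.pushforward f).rightDerived i).obj G) := by
  have i0 : ∀ M : X.Modules, ((DCoh.tensorBi (X := X)).flip.obj M).IsLeftAdjoint := K53.LfResMod.hasSheafHom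
  have i1 : ∀ N : X.Modules, PreservesFiniteColimits ((DCoh.tensorBi (X := X)).obj N) := K53.LfResMod.pfc
  have i2 : ∀ M : X.Modules, ((DCoh.tensorBi (X := X)).flip.obj M).Additive := K53.LfResMod.flipAdd
  have i3 : HasInjectiveResolutions X.Modules := ‹HasInjectiveResolutions (ModSite.Mod X.sheaf)›
  exact complexIso (DCoh.tensorBi (X := X)) (Scheme.Modules.pushforward f) K53.LfResMod.flatCover
    (fun S M I hI hS h => Groth.Agent.PerfC.FlasquePush.map_shortExact f hS (by
      rw [h]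
      exact isFlasqueMod_ho M I)) G L F π hπ hex0 hex
    (fun j i => hL j (i + 1) (Nat.succ_pos i)) C e hC i

end Sch

end K54.AcycRes
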