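import Groth.Agent.Etcore.DerLES
import Mathlib.Algebra.Homology.ShortComplex.PreservesHomology

/-!
# A left exact functor commutes with homology when the lower homology is acyclic

`K` a cochain complex of `F`-acyclic objects with `H^b(K)` acyclic for `b < p`: then
`H^p(F K) ≅ F (H^p K)`.
-/

set_option autoImplicit false

open CategoryTheory CategoryTheory.Limits

namespace K54.DegSS

open Groth.Agent.Etcore.DerLES

universe v₁ v₂ u₁ u₂

variable {B : Type u₁} [Category.{v₁} B] [Abelian B] {C : Type u₂} [Category.{v₂} C] [Abelian C]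
  (F : B ⥤ C) [F.Additive] [PreservesFiniteLimits F]

/-- The image of `X₁ ⟶ Z`. -/
noncomputable abbrev im (T : ShortComplex B) : B := Abelian.image T.toCycles

/-- `0 ⟶ ker ⟶ X₁ ⟶ im ⟶ 0`. -/
noncomputable abbrev seq₁ (T : ShortComplex B) : ShortComplex B :=
  ShortComplex.mk (kernel.ι T.f) (Abelian.factorThruImage T.toCycles) (by
    rw [← cancel_mono (Abelian.image.ι T.toCycles), Category.assoc, Abelian.image.fac, zero_comp,
      ← cancel_mono T.iCycles, Category.assoc, T.toCycles_i, zero_comp, kernel.condition])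

theorem seq₁_shortExact (T : ShortComplex B) : (seq₁ T).ShortExact where
  exact := by
    have h : (ShortComplex.mk (kernel.ι T.f) T.f (kernel.condition _)).Exact :=
      ShortComplex.exact_kernel _
    let φ : seq₁ T ⟶ ShortComplex.mk (kernel.ι T.f) T.f (kernel.condition _) :=
      { τ₁ := 𝟙 _
        τ₂ := 𝟙 _
        τ₃ := Abelian.image.ι T.toCycles ≫ T.iCycles
        comm₂₃ := by
          change 𝟙 _ ≫ T.f = Abelian.factorThruImage T.toCycles ≫ _ ≫ _
          rw [← Category.assoc, Abelian.image.fac, T.toCycles_i, Category.id_comp] }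
    have : Mono φ.τ₃ := inferInstanceAs (Mono (Abelian.image.ι T.toCycles ≫ T.iCycles))
    exact (ShortComplex.exact_iff_of_epi_of_isIso_of_mono φ).2 h
  mono_f := inferInstance
  epi_g := inferInstanceAs (Epi (Abelian.factorThruImage T.toCycles))

/-- `0 ⟶ im ⟶ Z ⟶ H ⟶ 0`. -/
noncomputable abbrev seq₂ (T : ShortComplex B) : ShortComplex B :=
  ShortComplex.mk (Abelian.image.ι T.toCycles) T.homologyπ (by
    rw [← cancel_epi (Abelian.factorThruImage T.toCycles), ← Category.assoc, Abelian.image.fac,
      T.toCycles_comp_homologyπ, comp_zero])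

theorem seq₂_shortExact (T : ShortComplex B) : (seq₂ T).ShortExact where
  exact := by
    have h : (ShortComplex.mk T.toCycles T.homologyπ T.toCycles_comp_homologyπ).Exact :=
      ShortComplex.exact_of_g_is_cokernel _ T.homologyIsCokernel
    let φ : ShortComplex.mk T.toCycles T.homologyπ T.toCycles_comp_homologyπ ⟶ seq₂ T :=
      { τ₁ := Abelian.factorThruImage T.toCycles
        τ₂ := 𝟙 _
        τ₃ := 𝟙 _
        comm₁₂ := by
          change Abelian.factorThruImage T.toCycles ≫ Abelian.image.ι T.toCycles = T.toCycles ≫ 𝟙 _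
          rw [Abelian.image.fac, Category.comp_id] }
    have : Epi φ.τ₁ := inferInstanceAs (Epi (Abelian.factorThruImage T.toCycles))
    exact (ShortComplex.exact_iff_of_epi_of_isIso_of_mono φ).1 h
  mono_f := inferInstanceAs (Mono (Abelian.image.ι T.toCycles))
  epi_g := inferInstanceAs (Epi T.homologyπ)

/-- The abstract step. -/
theorem nonempty_iso_of_epi (T : ShortComplex B) (h1 : Epi (F.map (seq₁ T).g)) (h2 : Epi (F.map (seq₂ T).g)) :
    Nonempty ((T.map F).homology ≅ F.obj T.homology) := by
  let h : T.LeftHomologyData :=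
    { K := T.cycles
      H := T.homology
      i := T.iCycles
      π := T.homologyπ
      wi := T.iCycles_g
      hi := T.cyclesIsKernel
      wπ := T.toCycles_comp_homologyπ
      hπ := T.homologyIsCokernel }
  have hf : h.f' = T.toCycles := by
    rw [← cancel_mono T.iCycles]
    exact (h.f'_i).trans T.toCycles_i.symm
  have e0 : ((seq₂ T).map F).Exact :=
    (seq₂_shortExact T).exact.map_of_mono_of_preservesKernel F (seq₂_shortExact T).mono_f inferInstance
  have w : F.map T.toCycles ≫ F.map T.homologyπ = 0 := by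
    rw [← F.map_comp, T.toCycles_comp_homologyπ, F.map_zero]
  have e1 : (ShortComplex.mk (F.map T.toCycles) (F.map T.homologyπ) w).Exact := by
    let φ : ShortComplex.mk (F.map T.toCycles) (F.map T.homologyπ) w ⟶ (seq₂ T).map F :=
      { τ₁ := F.map (Abelian.factorThruImage T.toCycles)
        τ₂ := 𝟙 (F.obj T.cycles)
        τ₃ := 𝟙 (F.obj T.homology)
        comm₁₂ := by
          change F.map (Abelian.factorThruImage T.toCycles) ≫ F.map (Abelian.image.ι T.toCycles) =
            F.map T.toCycles ≫ 𝟙 _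
          rw [← F.map_comp, Abelian.image.fac, Category.comp_id]
        comm₂₃ := (Category.id_comp _).trans (Category.comp_id _).symm }
    have : Epi φ.τ₁ := h1
    have : IsIso φ.τ₂ := inferInstanceAs (IsIso (𝟙 (F.obj T.cycles)))
    have : Mono φ.τ₃ := inferInstanceAs (Mono (𝟙 (F.obj T.homology)))
    exact (ShortComplex.exact_iff_of_epi_of_isIso_of_mono φ).2 e0
  have hc := e1.gIsCokernel
  have hp : h.IsPreservedBy F :=
    { g := inferInstance
      f' := by
        rw [hf]
        refine preservesColimit_of_preserves_colimit_cocone T.homologyIsCokernel ?_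
        exact (CokernelCofork.isColimitMapCoconeEquiv _ F).symm hc }
  exact ⟨(h.map F).homologyIso⟩

variable [EnoughInjectives B]

theorem acyc_im (T : ShortComplex B) (hX : Acyc F T.X₁) (hk : Acyc F (kernel T.f)) : Acyc F (im T) :=
  acyc_X₃ F (seq₁_shortExact T) hk hX

theorem nonempty_iso (T : ShortComplex B) (hX : Acyc F T.X₁) (hk : Acyc F (kernel T.f)) :
    Nonempty ((T.map F).homology ≅ F.obj T.homology) :=
  nonempty_iso_of_epi F T (epi_map_g F (seq₁_shortExact T) (hk 0))
    (epi_map_g F (seq₂_shortExact T) (acyc_im F T hX hk 0))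

theorem acyc_cycles (T : ShortComplex B) (hX : Acyc F T.X₁) (hk : Acyc F (kernel T.f))
    (hH : Acyc F T.homology) : Acyc F (kernel T.g) :=
  Acyc.of_iso F T.cyclesIsoKernel (acyc_X₂ F (seq₂_shortExact T) (acyc_im F T hX hk) hH)

theorem acyc_kernel (K : CochainComplex B ℕ) (hK : ∀ j, Acyc F (K.X j)) (p : ℕ)
    (hH : ∀ b, b < p → Acyc F (K.homology b)) (j : ℕ) (hj : j < p) : Acyc F (kernel (K.d j (j + 1))) := by
  induction j with
  | zero =>
    have e : K.homology 0 ≅ kernel (K.d 0 1) :=
      (CochainComplex.isoHomologyπ₀ K).symm ≪≫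
        (HomologicalComplex.cyclesIsKernel K 0 1 (by simp)).conePointUniqueUpToIso (limit.isLimit _)
    exact Acyc.of_iso F e (hH 0 hj)
  | succ j ih =>
    let T := K.sc' j (j + 1) (j + 1 + 1)
    have e : K.homology (j + 1) ≅ T.homology :=
      ShortComplex.homologyMapIso (K.isoSc' j (j + 1) (j + 1 + 1) (by simp) (by simp))
    exact acyc_cycles F T (hK j) (ih (by lia)) (Acyc.of_iso F e (hH (j + 1) hj))

/-- `H^p(F K) ≅ F (H^p K)`. -/
theorem main (K : CochainComplex B ℕ) (hK : ∀ j, Acyc F (K.X j)) (p : ℕ)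
    (hH : ∀ b, b < p → Acyc F (K.homology b)) :
    Nonempty (((F.mapHomologicalComplex (ComplexShape.up ℕ)).obj K).homology p ≅ F.obj (K.homology p)) := by
  rcases p with _ | p
  · let T := K.sc 0
    have hf : T.f = 0 := K.shape _ _ (by simp)
    have hk : Acyc F (kernel T.f) := by
      rw [hf]
      exact Acyc.of_iso F (asIso (kernel.ι (0 : T.X₁ ⟶ T.X₂))).symm (hK _)
    exact nonempty_iso F T (hK _) hk
  · let T := K.sc' p (p + 1) (p + 1 + 1)
    have e : K.homology (p + 1) ≅ T.homology :=
      ShortComplex.homologyMapIso (K.isoSc' p (p + 1) (p + 1 + 1) (by simp) (by simp))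
    have e' : ((F.mapHomologicalComplex (ComplexShape.up ℕ)).obj K).homology (p + 1) ≅ (T.map F).homology :=
      ShortComplex.homologyMapIso (((F.mapHomologicalComplex (ComplexShape.up ℕ)).obj K).isoSc'
        p (p + 1) (p + 1 + 1) (by simp) (by simp))
    obtain ⟨i⟩ := nonempty_iso F T (hK p) (acyc_kernel F K hK (p + 1) hH p (Nat.lt_succ_self p))
    exact ⟨e' ≪≫ i ≪≫ F.mapIso e.symm⟩

section Comp

universe v₃ u₃

variable {A : Type u₃} [Category.{v₃} A] [Abelian A] [EnoughInjectives A] (T : A ⥤ B) [T.Additive]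

/-- `R^p(T ⋙ F) G ≅ F (R^p T G)` if `T` maps injectives to acyclics and `R^b T G` is acyclic for `b < p`. -/
theorem comp (hT : ∀ I : A, Injective I → Acyc F (T.obj I)) (G : A) (p : ℕ)
    (hH : ∀ b, b < p → Acyc F ((T.rightDerived b).obj G)) :
    Nonempty (((T ⋙ F).rightDerived p).obj G ≅ F.obj ((T.rightDerived p).obj G)) := by
  let J := injectiveResolution G
  let K := (T.mapHomologicalComplex (ComplexShape.up ℕ)).obj J.cocomplex
  obtain ⟨i⟩ := main F K (fun j => hT _ (J.injective j)) p
    (fun b hb => Acyc.of_iso F (J.isoRightDerivedObj T b) (hH b hb))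
  exact ⟨J.isoRightDerivedObj (T ⋙ F) p ≪≫ i ≪≫ F.mapIso (J.isoRightDerivedObj T p).symm⟩

end Comp

end K54.DegSS
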