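import Groth.Agent.Sga67.ExtClass
import Groth.Agent.Sga67.TensorOps

/-!
# Exterior powers of an extension of a line bundle

For a short exact sequence `0 → E' → E → J → 0` of `O_X`-modules with `J` locally free of rank 1:
`exists_ses`: `0 → Λ^{p+1} E' → Λ^{p+1} E → Λ^p E' ⊗ J → 0` is exact.
-/

set_option autoImplicit false

universe u u₁ u₂ u₃

open CategoryTheory CategoryTheory.Limits AlgebraicGeometry Opposite TopologicalSpace
open scoped TensorProduct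
open Groth.Agent.Sga67.Sec Groth.Agent.Sga67.LocBasis Groth.Agent.Sga67.SesImage
open Groth.Agent.Sga67 Groth.Agent.Sga67.ExtSheaf Groth.Agent.Sga67.ExtClass

namespace K54.ExtSes

section Alg

variable {R : Type u} [CommRing R] {M' : Type u₁} {M : Type u₂} {M'' : Type u₃}
  [AddCommGroup M'] [Module R M'] [AddCommGroup M] [Module R M] [AddCommGroup M''] [Module R M'']

/-- Exterior powers of degree at least 2 of a cyclic module vanish. -/
theorem eq_zero_of_cyclic (v : M'') (hv : ∀ m, ∃ a : R, m = a • v) (k : ℕ) (hk : 2 ≤ k)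
    (x : ⋀[R]^k M'') : x = 0 := by
  have hx : x ∈ Submodule.span R (Set.range (exteriorPower.ιMulti R k (M := M''))) := by
    rw [exteriorPower.ιMulti_span]; trivial
  induction hx using Submodule.span_induction with
  | mem x hx =>
    obtain ⟨w, rfl⟩ := hx
    choose a ha using fun i => hv (w i)
    have hw : w = fun i => a i • v := funext ha
    rw [hw, AlternatingMap.map_smul_univ]
    rw [(exteriorPower.ιMulti R k (M := M'')).map_eq_zero_of_eq (fun _ => v)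
      (i := (⟨0, by omega⟩ : Fin k)) (j := ⟨1, by omega⟩) rfl (by simp), smul_zero]
  | zero => rfl
  | add x y _ _ hx hy => rw [hx, hy, add_zero]
  | smul a x _ hx => rw [hx, smul_zero]

theorem tensor_eq_zero {N : Type*} [AddCommGroup N] [Module R N] {N' : Type*} [AddCommGroup N']
    [Module R N'] (h : ∀ x : N', x = 0) (t : N ⊗[R] N') : t = 0 := by
  induction t using TensorProduct.induction_on with
  | zero => rfl
  | add x y hx hy => rw [hx, hy, add_zero]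
  | tmul x y => rw [h y, TensorProduct.tmul_zero]

/-- If `M''` is cyclic then `Λ^p M' ⊗ Λ^1 M → Λ^{p+1} M` is onto. -/
theorem exists_mu_eq (f : M' →ₗ[R] M) (g : M →ₗ[R] M'') (r : M →ₗ[R] M') (s : M'' →ₗ[R] M)
    (hrs : ∀ m, m - s (g m) = f (r m)) (v : M'') (hv : ∀ m, ∃ a : R, m = a • v) (n : ℕ)
    (y : ⋀[R]^(n + 1) M) (p q : ℕ) (h : p + (q + 1) = n + 1) :
    ∃ t : ⋀[R]^p M' ⊗[R] ⋀[R]^(q + 1) M, ExtAlg.mu h f t = y := by
  induction p generalizing q with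
  | zero =>
    exact ExtAlg.mu_zero_surjective h f y
  | succ p ih =>
    obtain ⟨t, ht⟩ := ih (q + 1) (by omega)
    have h0 : ExtAlg.pi M' p (q + 1 + 1) g t = 0 :=
      tensor_eq_zero (eq_zero_of_cyclic v hv (q + 1 + 1) (by omega)) _
    obtain ⟨t', ht'⟩ := ExtAlg.exists_mu_eq_of_pi_eq_zero (p := p) (q := q + 1) (by omega) h f g r s
      hrs t h0
    exact ⟨t', ht'.trans ht⟩

theorem coe_zeroEquiv_symm (r : R) : ((exteriorPower.zeroEquiv R M).symm r : ExteriorAlgebra R M) =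
    algebraMap R (ExteriorAlgebra R M) r := by
  have h : (exteriorPower.zeroEquiv R M).symm r =
      r • exteriorPower.ιMulti R 0 (Fin.elim0 : Fin 0 → M) := by
    apply (exteriorPower.zeroEquiv R M).injective
    rw [LinearEquiv.apply_symm_apply, map_smul, exteriorPower.zeroEquiv_ιMulti, smul_eq_mul, mul_one]
  rw [h]
  simp [Algebra.smul_def]

/-- The image of `Λ^n M' ⊗ Λ^0 M` is the image of `Λ^n M'`. -/
theorem exists_map_eq (f : M' →ₗ[R] M) (n : ℕ) (h : n + 0 = n) (t : ⋀[R]^n M' ⊗[R] ⋀[R]^0 M) :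
    ∃ y : ⋀[R]^n M', exteriorPower.map n f y = ExtAlg.mu h f t := by
  induction t using TensorProduct.induction_on with
  | zero => exact ⟨0, by simp⟩
  | add x y hx hy =>
    obtain ⟨a, ha⟩ := hx
    obtain ⟨b, hb⟩ := hy
    exact ⟨a + b, by rw [map_add, map_add, ha, hb]⟩
  | tmul x c =>
    obtain ⟨r, rfl⟩ := (exteriorPower.zeroEquiv R M).symm.surjective c
    refine ⟨r • x, ?_⟩
    rw [ExtAlg.mu_tmul, map_smul]
    apply Subtype.ext
    rw [ExtAlg.coe_wedge]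
    rw [coe_zeroEquiv_symm, ← Algebra.commutes, ← Algebra.smul_def]
    rfl

theorem mu_tmul_one (f : M' →ₗ[R] M) (n : ℕ) (h : n + 0 = n) (x : ⋀[R]^n M') :
    ExtAlg.mu h f (x ⊗ₜ (exteriorPower.zeroEquiv R M).symm 1) = exteriorPower.map n f x := by
  rw [ExtAlg.mu_tmul]
  apply Subtype.ext
  rw [ExtAlg.coe_wedge]
  rw [coe_zeroEquiv_symm, map_one, mul_one]

theorem exists_mu_map_eq {p : ℕ} (h : p + (0 + 1) = p + 1)
    (f : M' →ₗ[R] M) (g : M →ₗ[R] M'') (hgf : g ∘ₗ f = 0) (x : ⋀[R]^(p + 1) M') :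
    ∃ t' : ⋀[R]^p M' ⊗[R] ⋀[R]^(0 + 1) M, ExtAlg.mu h f t' = exteriorPower.map (p + 1) f x ∧
      ExtAlg.pi M' p (0 + 1) g t' = 0 := by
  obtain ⟨t, h1, h2⟩ := ExtAlg.exists_mu_eq_of_succ (p := p) (q := 0) h rfl f g hgf
    (x ⊗ₜ (exteriorPower.zeroEquiv R M).symm 1)
  exact ⟨t, h1.trans (mu_tmul_one f (p + 1) rfl x), h2⟩

end Alg

section Sheaf

variable {X : Scheme.{u}} {S : ShortComplex X.Modules} (hS : S.ShortExact)
  (h₃ : FlatMod.IsFinLocFreeOfRank 1 S.X₃)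

theorem isFinLocFree_of_rank {n : ℕ} {E : X.Modules} (h : FlatMod.IsFinLocFreeOfRank n E) :
    FlatMod.IsFinLocFree E := fun x =>
  let ⟨U, hU, e⟩ := h x
  ⟨U, n, hU, e⟩

include hS h₃ in
/-- Splitting over small affine opens on which `S.X₃` is cyclic. -/
theorem exists_split_cyclic {U : X.Opens} {x : X} (hx : x ∈ U) :
    ∃ (W : X.affineOpens), W.1 ≤ U ∧ x ∈ W.1 ∧ Good S W ∧
      ∃ v : Sec S.X₃ W.1, ∀ m, ∃ a : Γ(X, W.1), m = a • v := by
  obtain ⟨V, hxV, hn⟩ := h₃ x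
  obtain ⟨b, hb⟩ := nonempty_restrict_iso_iff.mp hn
  obtain ⟨W, hW, hxW, hgood⟩ := exists_split hS (isFinLocFree_of_rank h₃)
    (show x ∈ U ⊓ V from ⟨hx, hxV⟩)
  refine ⟨W, hW.trans inf_le_left, hxW, hgood, ?_⟩
  refine ⟨res S.X₃ (hW.trans inf_le_right) (b 0), fun m => ?_⟩
  obtain ⟨a, ha⟩ := (hb W.1 (hW.trans inf_le_right)).2 m
  refine ⟨a 0, ?_⟩
  rw [← ha, comb_apply, Fin.sum_univ_one]

include hS h₃ in
/-- Multiplication `Λ^p E' ⊗ Λ^1 E → Λ^{p+1} E` is an epimorphism. -/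
theorem epi_mul {p : ℕ} {L K N : X.Modules}
    (φ : Phi (p + 1) S.X₂ L) (ψ : Phi p S.X₁ K) (φ2 : Phi (0 + 1) S.X₂ N)
    (m : CohB1.tensorMod K N ⟶ L)
    (hm : ∀ (U : X.affineOpens) (t : Sec K U.1 ⊗[Γ(X, U.1)] Sec N U.1),
      φ U (appS m U.1 (tau K N U.1 t)) = ExtAlg.mu (show p + (0 + 1) = p + 1 from rfl)
        (appS S.f U.1) (TensorProduct.map (ψ U).toLinearMap (φ2 U).toLinearMap t)) :
    Epi m := by
  apply epi_of_locally_surjective
  intro U s x hx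
  obtain ⟨W, hW, hxW, ⟨r, σ, hr, hσ, hrσ⟩, v, hv⟩ := exists_split_cyclic hS h₃ hx
  obtain ⟨t, ht⟩ := exists_mu_eq (appS S.f W.1) (appS S.g W.1) r σ hrσ v hv p
    (φ W (res _ hW s)) p 0 rfl
  obtain ⟨t₂, rfl⟩ := (map_congr_injective ψ φ2 W).2 t
  refine ⟨W.1, hW, hxW, tau K N W.1 t₂, ?_⟩
  apply (φ W).injective
  rw [hm W, ht]

include hS h₃ in
/-- The map `Λ^n E' → Λ^n E` is a monomorphism. -/
theorem mono_map {n : ℕ} {L' L : X.Modules} (φ' : Phi n S.X₁ L') (φ : Phi n S.X₂ L) (j : L' ⟶ L)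
    (hj : ∀ (U : X.affineOpens) (s : Sec L' U.1),
      φ U (appS j U.1 s) = exteriorPower.map n (appS S.f U.1) (φ' U s)) :
    Mono j := by
  apply mono_of_locally_injective
  intro x U hx
  obtain ⟨W, hW, hxW, ⟨r, σ, hr, hσ, hrσ⟩⟩ := exists_split hS (isFinLocFree_of_rank h₃) hx
  refine ⟨W.1, hW, hxW, fun s hs => ?_⟩
  apply (φ' W).injective
  have h1 := hj W s
  rw [hs, map_zero] at h1
  have h2 : exteriorPower.map n r (exteriorPower.map n (appS S.f W.1) (φ' W s)) = φ' W s := by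
    rw [← LinearMap.comp_apply, ← exteriorPower.map_comp]
    have h3 : r ∘ₗ appS S.f W.1 = LinearMap.id := LinearMap.ext hr
    rw [h3, exteriorPower.map_id]
    rfl
  rw [← h2, ← h1, map_zero, map_zero]

set_option maxHeartbeats 1000000 in
include hS h₃ in
/-- The sequence of images. -/
theorem ses_core {p : ℕ} {L' L K N M : X.Modules} (φ' : Phi (p + 1) S.X₁ L')
    (φ : Phi (p + 1) S.X₂ L) (ψ : Phi p S.X₁ K) (φ2 : Phi (0 + 1) S.X₂ N) (φ3 : Phi (0 + 1) S.X₃ M)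
    (l : N ⟶ M)
    (hl : ∀ (U : X.affineOpens) (s : Sec N U.1),
      φ3 U (appS l U.1 s) = exteriorPower.map (0 + 1) (appS S.g U.1) (φ2 U s))
    (m : CohB1.tensorMod K N ⟶ L)
    (hm : ∀ (U : X.affineOpens) (t : Sec K U.1 ⊗[Γ(X, U.1)] Sec N U.1),
      φ U (appS m U.1 (tau K N U.1 t)) = ExtAlg.mu (show p + (0 + 1) = p + 1 from rfl)
        (appS S.f U.1) (TensorProduct.map (ψ U).toLinearMap (φ2 U).toLinearMap t))
    (j : L' ⟶ L)
    (hj : ∀ (U : X.affineOpens) (s : Sec L' U.1),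
      φ U (appS j U.1 s) = exteriorPower.map (p + 1) (appS S.f U.1) (φ' U s)) :
    ∃ (j' : image j ⟶ image m) (k' : image m ⟶ CohB1.tensorMod K M) (w : j' ≫ k' = 0),
      (ShortComplex.mk j' k' w).ShortExact := by
  have h₃' := isFinLocFree_of_rank h₃
  have := epi_tmap hS h₃' ψ φ2 φ3 l hl
  have hpq : p + (0 + 1) = p + 1 := rfl
  have hpq' : p + 1 + 0 = p + 1 := rfl
  refine exists_ses_image m (tmap K l) j ?_ ?_ ?_
  · -- hb
    intro U s hs x hx
    obtain ⟨W, hW, hxW, ⟨r, σ, hr, hσ, hrσ⟩, t, ht⟩ := exists_good hS h₃' s hx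
    refine ⟨W.1, hW, hxW, ?_⟩
    rw [← ht, appS_tmap]
    have h1 : ExtAlg.mu hpq (appS S.f W.1)
        (TensorProduct.map (ψ W).toLinearMap (φ2 W).toLinearMap t) = 0 := by
      rw [← hm W t, ht, appS_res, hs, map_zero, map_zero]
    have h2 := ExtAlg.pi_eq_zero_of_mu_eq_zero hpq (appS S.f W.1) (appS S.g W.1) r
      (LinearMap.ext hr) (appS_g_f S W.1) _ h1
    rw [← congr_map S.g ψ φ2 φ3 l hl W t] at h2
    have h3 := (map_congr_injective ψ φ3 W).1 (h2.trans (map_zero _).symm)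
    rw [h3, map_zero]
  · -- hc
    intro U s hs x hx
    obtain ⟨V, hV, hxV, t, ht⟩ := tau_locsurj _ _ s x hx
    have h1 : tau K M V (TensorProduct.map LinearMap.id (appS l V) t) = 0 := by
      rw [← appS_tmap, ht, appS_res, hs, map_zero]
    obtain ⟨V', hV', hxV', h2⟩ := tau_locinj _ _ _ h1 x hxV
    obtain ⟨W, hW, hxW, ⟨r, σ, hr, hσ, hrσ⟩⟩ := exists_split hS h₃' hxV'
    have h3 : TensorProduct.map LinearMap.id (appS l W.1) (tres K N (hW.trans hV') t) = 0 := by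
      rw [← tres_map]
      have : tres K M (hW.trans hV') (TensorProduct.map LinearMap.id (appS l V) t) =
          tres K M hW (tres K M hV' (TensorProduct.map LinearMap.id (appS l V) t)) :=
        (pres_pres (CohB1.tensorPre K M) hV' hW _).symm
      rw [this, h2, map_zero]
    have h4 : ExtAlg.pi (Sec S.X₁ W.1) p (0 + 1) (appS S.g W.1)
        (TensorProduct.map (ψ W).toLinearMap (φ2 W).toLinearMap
          (tres K N (hW.trans hV') t)) = 0 := by
      rw [← congr_map S.g ψ φ2 φ3 l hl W, h3, map_zero]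
    obtain ⟨t₁, ht₁⟩ := ExtAlg.exists_mu_eq_of_pi_eq_zero hpq hpq'
      (appS S.f W.1) (appS S.g W.1) r σ hrσ _ h4
    obtain ⟨y, hy⟩ := exists_map_eq (appS S.f W.1) (p + 1) rfl t₁
    refine ⟨W.1, (hW.trans hV').trans hV, hxW, (φ' W).symm y, ?_⟩
    apply (φ W).injective
    rw [hj W, LinearEquiv.apply_symm_apply, hy, ht₁, ← hm W, tau_tres, ht, res_res]
  · -- hd
    intro U t x hx
    obtain ⟨W, hW, hxW, -⟩ := exists_split hS h₃' hx
    obtain ⟨t₂, ht₂, ht₂'⟩ := exists_mu_map_eq hpq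
      (appS S.f W.1) (appS S.g W.1) (appS_g_f S W.1) (φ' W (res _ hW t))
    obtain ⟨t₃, rfl⟩ := (map_congr_injective ψ φ2 W).2 t₂
    refine ⟨W.1, hW, hxW, tau K N W.1 t₃, ?_, ?_⟩
    · apply (φ W).injective
      exact ((hm W _).trans ht₂).trans (hj W _).symm
    · rw [appS_tmap]
      rw [← congr_map S.g ψ φ2 φ3 l hl W] at ht₂'
      have h3 := (map_congr_injective ψ φ3 W).1 (ht₂'.trans (map_zero _).symm)
      rw [h3, map_zero]

include hS h₃ in
/-- **The exact sequence of exterior powers for an extension of a line bundle**: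
`0 → Λ^{p+1} E' → Λ^{p+1} E → Λ^p E' ⊗ J → 0`. -/
theorem exists_ses {p : ℕ} {L' L K : X.Modules} (hL' : ExtPow.IsExtPow (p + 1) S.X₁ L')
    (hL : ExtPow.IsExtPow (p + 1) S.X₂ L) (hK : ExtPow.IsExtPow p S.X₁ K) :
    ∃ (j : L' ⟶ L) (k : L ⟶ CohB1.tensorMod K S.X₃) (w : j ≫ k = 0),
      (ShortComplex.mk j k w).ShortExact := by
  obtain ⟨φ', hφ'⟩ := exists_phi hL'
  obtain ⟨φ, hφ⟩ := exists_phi hL
  obtain ⟨ψ, hψ⟩ := exists_phi hK
  obtain ⟨φ2, hφ2⟩ := exists_phi (TensorOps.isExtPow_one S.X₂)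
  obtain ⟨φ3, hφ3⟩ := exists_phi (TensorOps.isExtPow_one S.X₃)
  obtain ⟨l, hl⟩ := exists_extMap S.g φ2 hφ2 φ3 hφ3
  obtain ⟨m, hm⟩ := exists_extMul (rfl : p + 1 = p + 1) S.f ψ hψ φ2 hφ2 φ hφ
  obtain ⟨j, hj⟩ := exists_extMap S.f φ' hφ' φ hφ
  have hme := epi_mul hS h₃ φ ψ φ2 m hm
  have hjm := mono_map hS h₃ φ' φ j hj
  obtain ⟨j', k', w', hse⟩ := ses_core hS h₃ φ' φ ψ φ2 φ3 l hl m hm j hj
  have i1 : IsIso (factorThruImage j) := by
    have := mono_of_mono_fac (image.fac j)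
    exact isIso_of_mono_of_epi _
  have i2 : IsIso (image.ι m) := by
    have := epi_of_epi_fac (image.fac m)
    exact isIso_of_mono_of_epi _
  let e1 : image j ≅ L' := (asIso (factorThruImage j)).symm
  let e2 : image m ≅ L := asIso (image.ι m)
  have w : (e1.inv ≫ j' ≫ e2.hom) ≫ e2.inv ≫ k' = 0 := by simp [w']
  refine ⟨e1.inv ≫ j' ≫ e2.hom, e2.inv ≫ k', w, ?_⟩
  let e : ShortComplex.mk j' k' w' ≅ ShortComplex.mk (e1.inv ≫ j' ≫ e2.hom) (e2.inv ≫ k') w :=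
    ShortComplex.isoMk e1 e2 (Iso.refl _) (by simp) (by simp)
  exact ShortComplex.shortExact_of_iso e hse

end Sheaf

end K54.ExtSes
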