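import Groth.Agent.Coherent.K55.Pack
import Groth.Agent.CohqA.AffineBaseChange
import Groth.Agent.CurvesB.HZero
import Groth.Agent.Ega3B.PackageAsm
import Groth.Agent.Ega3B.RpushAff
import Groth.Agent.Ega3B.FlatRestrict
import Groth.Agent.PerfC.FPSections
import Groth.Prelude.Def_CohPull

/-!
# The direct image of a flat family: sections over affine opens and base change, degree 0

`exists_secData`: `π : X ⟶ Y` proper, locally of finite presentation, `F` finitely presented, flat over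
`Y`, `V` an affine open of `Y`: linear algebra data `K` over `Γ(Y, V)` with `Γ(V, π_* F) = K.H 0` and, for
every cartesian square over `α : Z ⟶ Y` and affine open `V' ≤ α⁻¹ V`,
`Γ(V', ζ_* f^* F) = K.HB 0 Γ(Z, V')`, the base change map on sections being `K.res 0`.
-/

set_option autoImplicit false
universe u

open AlgebraicGeometry CategoryTheory CategoryTheory.Limits Scheme.Modules

namespace K54.PushSec

open Groth.Agent Groth.Agent.CohqA.PullbackUniv Groth.Agent.CohqA.PullbackAffine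
  Groth.Agent.CohqA.PullbackSections Groth.Agent.CohqA.AffineBaseChange
  Groth.Agent.CohqA.BaseChangeMod Groth.Agent.Ega3B K55 K55.Pack

theorem isoSpec_square {Y Z : Scheme.{u}} (α : Z ⟶ Y) {V : Y.Opens} (hV : IsAffineOpen V) {V' : Z.Opens}
    (hV' : IsAffineOpen V') (e : V' ≤ α ⁻¹ᵁ V) :
    α.resLE V V' e ≫ hV.isoSpec.hom = hV'.isoSpec.hom ≫ Spec.map (α.appLE V V' e) := by
  rw [← cancel_mono hV.fromSpec, Category.assoc, Category.assoc, IsAffineOpen.isoSpec_hom_fromSpec,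
    hV.SpecMap_appLE_fromSpec _ hV' e, Scheme.Hom.resLE_comp_ι, ← Category.assoc,
    IsAffineOpen.isoSpec_hom_fromSpec]

theorem isPullback_str {X Y X' Z : Scheme.{u}} {f : X' ⟶ X} {ζ : X' ⟶ Z} {π : X ⟶ Y} {α : Z ⟶ Y}
    (h : IsPullback f ζ π α) {V : Y.Opens} (hV : IsAffineOpen V) {V' : Z.Opens}
    (hV' : IsAffineOpen V') (e : V' ≤ α ⁻¹ᵁ V) :
    IsPullback (f.resLE (π ⁻¹ᵁ V) (ζ ⁻¹ᵁ V') (preimage_le h.w V V' e)) (PackageAsm.strMap ζ hV')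
      (PackageAsm.strMap π hV) (Spec.map (α.appLE V V' e)) := by
  have h1 := Scheme.Hom.isPullback_resLE h (US := V) (UT := V') (UX := π ⁻¹ᵁ V) (UY := ζ ⁻¹ᵁ V') e le_rfl
    (inf_eq_right.2 (preimage_le h.w V V' e)).symm
  rw [Scheme.Hom.resLE_eq_morphismRestrict, Scheme.Hom.resLE_eq_morphismRestrict] at h1
  exact h1.paste_vert (IsPullback.of_vert_isIso ⟨isoSpec_square α hV hV' e⟩)

variable {X Y : Scheme.{u}} (π : X ⟶ Y) (F : X.Modules)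

/-- `Γ(V, π_* F) = H^0(π⁻¹ V, F)`, semilinearly. -/
theorem exists_equiv_H0 {V : Y.Opens} (hV : IsAffineOpen V) :
    ∃ e : Γ((pushforward π).obj F, V) ≃+ Coh.HH (π ⁻¹ᵁ V).toScheme (F.restrict (π ⁻¹ᵁ V).ι) 0,
      (∀ (a : Γ(Y, V)) (x : Γ((pushforward π).obj F, V)),
        e (a • x) = Coh.toGlobal (PackageAsm.strMap π hV) a • e x) ∧
      ∀ x, CurvesB.HZero.equivAdd _ (e x) = toRes F (π ⁻¹ᵁ V) x := by
  let r : Γ(F, π ⁻¹ᵁ V) ≃+ Γ(F.restrict (π ⁻¹ᵁ V).ι, ⊤) := AddEquiv.ofBijective _ (bijective_toRes F (π ⁻¹ᵁ V))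
  let e : Γ((pushforward π).obj F, V) ≃+ Coh.HH (π ⁻¹ᵁ V).toScheme (F.restrict (π ⁻¹ᵁ V).ι) 0 :=
    r.trans (CurvesB.HZero.equivAdd _).symm
  have he : ∀ x, CurvesB.HZero.equivAdd _ (e x) = toRes F (π ⁻¹ᵁ V) x := fun x =>
    (CurvesB.HZero.equivAdd _).apply_symm_apply _
  refine ⟨e, fun a x => ?_, he⟩
  apply (CurvesB.HZero.equivAdd _).injective
  refine Eq.trans ?_ (CurvesB.HZero.equivAdd_smul _ (Coh.toGlobal (PackageAsm.strMap π hV) a) (e x)).symm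
  rw [he, he, RpushAff.toGlobal_eq]
  exact toRes_smul F (π ⁻¹ᵁ V) (π.app V a) x

/-- `Γ(V', ζ_* f^* F) = H^0(ζ⁻¹ V', j^* F)` for `j : ζ⁻¹ V' ⟶ π⁻¹ V`, semilinearly, and the section map is
the pullback on `H^0`. -/
theorem exists_equiv_H0' {X' Z : Scheme.{u}} {f : X' ⟶ X} {ζ : X' ⟶ Z} {α : Z ⟶ Y}
    (w : f ≫ π = ζ ≫ α) {V : Y.Opens} {V' : Z.Opens}
    (hV' : IsAffineOpen V') (e : V' ≤ α ⁻¹ᵁ V) :
    ∃ e₁ : Γ((pushforward ζ).obj ((Scheme.Modules.pullback f).obj F), V') ≃+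
        Coh.HH (ζ ⁻¹ᵁ V').toScheme ((Scheme.Modules.pullback
          (f.resLE (π ⁻¹ᵁ V) (ζ ⁻¹ᵁ V') (preimage_le w V V' e))).obj (F.restrict (π ⁻¹ᵁ V).ι)) 0,
      (∀ (b : Γ(Z, V')) (x : Γ((pushforward ζ).obj ((Scheme.Modules.pullback f).obj F), V')),
        e₁ (b • x) = Coh.toGlobal (PackageAsm.strMap ζ hV') b • e₁ x) ∧
      ∀ (x : Γ(F, π ⁻¹ᵁ V)) (y : Coh.HH (π ⁻¹ᵁ V).toScheme (F.restrict (π ⁻¹ᵁ V).ι) 0),
        CurvesB.HZero.equivAdd _ y = toRes F (π ⁻¹ᵁ V) x →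
        e₁ (secMap f (pbUnit f F) (π ⁻¹ᵁ V) (ζ ⁻¹ᵁ V') (preimage_le w V V' e) x) =
          CohPull.pullMod (f.resLE (π ⁻¹ᵁ V) (ζ ⁻¹ᵁ V') (preimage_le w V V' e))
            (F.restrict (π ⁻¹ᵁ V).ι) 0 y := by
  let U := π ⁻¹ᵁ V
  let U' := ζ ⁻¹ᵁ V'
  have he : U' ≤ f ⁻¹ᵁ U := preimage_le w V V' e
  let N := (Scheme.Modules.pullback f).obj F
  obtain ⟨a', ha'⟩ := exists_restrict f (pbUnit f F) U U' he
  have hu := isUniv_restrict_of_isUniv f (pbUnit f F) (isUniv_pbUnit f F) U U' he a' ha'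
  obtain ⟨ε, hε, hε'⟩ := (isUniv_pbUnit (f.resLE U U' he) (F.restrict U.ι)).exists_iso hu
  let r : Γ(N, U') ≃+ Γ(N.restrict U'.ι, ⊤) := AddEquiv.ofBijective _ (bijective_toRes N U')
  let i : Γ(N.restrict U'.ι, ⊤) ≃+ Γ((Scheme.Modules.pullback (f.resLE U U' he)).obj (F.restrict U.ι), ⊤) :=
    { (ε.inv.app ⊤).hom with
      invFun := ε.hom.app ⊤
      left_inv := fun x => congr($(congrArg (fun t : N.restrict U'.ι ⟶ _ => t.app ⊤) ε.inv_hom_id) x)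
      right_inv := fun x => congr($(congrArg (fun t :
        (Scheme.Modules.pullback (f.resLE U U' he)).obj (F.restrict U.ι) ⟶ _ => t.app ⊤) ε.hom_inv_id) x) }
  let e₁ : Γ((pushforward ζ).obj N, V') ≃+
      Coh.HH U'.toScheme ((Scheme.Modules.pullback (f.resLE U U' he)).obj (F.restrict U.ι)) 0 :=
    (r.trans i).trans (CurvesB.HZero.equivAdd _).symm
  have h1 : ∀ x, CurvesB.HZero.equivAdd _ (e₁ x) = ε.inv.app ⊤ (toRes N U' x) := fun x =>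
    (CurvesB.HZero.equivAdd _).apply_symm_apply _
  refine ⟨e₁, fun b x => ?_, fun x y hy => ?_⟩
  · apply (CurvesB.HZero.equivAdd _).injective
    refine Eq.trans ?_ (CurvesB.HZero.equivAdd_smul _ (Coh.toGlobal (PackageAsm.strMap ζ hV') b) (e₁ x)).symm
    rw [h1, h1, RpushAff.toGlobal_eq]
    refine (congrArg (ε.inv.app ⊤) (toRes_smul N U' (ζ.app V' b) x)).trans ?_
    exact Scheme.Modules.Hom.app_smul ε.inv _ _
  · apply (CurvesB.HZero.equivAdd _).injective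
    rw [h1]
    refine Eq.trans ?_ (CohPull.equiv₀_pullMod (f.resLE U U' he) (F.restrict U.ι) y).symm
    have h2 : toRes N U' (secMap f (pbUnit f F) U U' he x) = a'.app ⊤ (toRes F U x) :=
      restrict_app_top f (pbUnit f F) U U' he a' ha' x
    have h3 : ε.inv.app ⊤ (a'.app ⊤ (toRes F U x)) =
        (pbUnit (f.resLE U U' he) (F.restrict U.ι)).app ⊤ (toRes F U x) :=
      congr($(congrArg (fun t => Hom.app t ⊤) hε') (toRes F U x))
    refine ((congrArg (ε.inv.app ⊤) h2).trans h3).trans ?_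
    exact congrArg _ hy.symm

/-- `K` computes `Γ(V, π_* F)` and all its base changes. -/
def SecData {V : Y.Opens} (K : CxData Γ(Y, V)) : Prop :=
  ∃ t₀ : Γ((pushforward π).obj F, V) ≃ₗ[Γ(Y, V)] K.H 0,
    ∀ {X' Z : Scheme.{u}} (f : X' ⟶ X) (ζ : X' ⟶ Z) (α : Z ⟶ Y) (h : IsPullback f ζ π α)
      (V' : Z.Opens) (_ : IsAffineOpen V') (e : V' ≤ α ⁻¹ᵁ V),
      letI := (α.appLE V V' e).hom.toAlgebra
      ∃ t₁ : Γ((pushforward ζ).obj ((Scheme.Modules.pullback f).obj F), V') ≃ₗ[Γ(Z, V')]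
          K.HB 0 Γ(Z, V'),
        ∀ x, t₁ (secMap α (pushSquare π α f ζ h.w (pbUnit f F)) V V' e x) = K.res 0 _ (t₀ x)

/-- `K` computes the cohomology of `F` over `V`. -/
def CompData {V : Y.Opens} (hV : IsAffineOpen V) (K : CxData Γ(Y, V)) : Prop :=
  letI : (π ⁻¹ᵁ V).toScheme.Over (Spec (CommRingCat.of Γ(Y, V))) := ⟨PackageAsm.strMap π hV⟩
  ∀ p : ℕ, ∃ θ₀ : Coh.HH (π ⁻¹ᵁ V).toScheme (F.restrict (π ⁻¹ᵁ V).ι) p ≃+ K.H p,
    Computes K (F.restrict (π ⁻¹ᵁ V).ι) p θ₀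

theorem exists_compData [IsProper π] [LocallyOfFinitePresentation π] (hfp : CohB1.IsFP F)
    (hfl : FlatMod.IsFlatOver π F) {V : Y.Opens} (hV : IsAffineOpen V) :
    ∃ K : CxData Γ(Y, V), CompData π F hV K := by
  let iO : (π ⁻¹ᵁ V).toScheme.Over (Spec (CommRingCat.of Γ(Y, V))) := ⟨PackageAsm.strMap π hV⟩
  have hpr : IsProper ((π ⁻¹ᵁ V).toScheme ↘ Spec (CommRingCat.of Γ(Y, V))) :=
    inferInstanceAs (IsProper ((π ∣_ V) ≫ hV.isoSpec.hom))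
  have hlfp : LocallyOfFinitePresentation ((π ⁻¹ᵁ V).toScheme ↘ Spec (CommRingCat.of Γ(Y, V))) :=
    inferInstanceAs (LocallyOfFinitePresentation ((π ∣_ V) ≫ hV.isoSpec.hom))
  have hF' : CohB1.IsFP (F.restrict (π ⁻¹ᵁ V).ι) := PerfC.FPSections.isFP_restrict _ hfp
  have hfl' : FlatMod.IsFlatOver ((π ⁻¹ᵁ V).toScheme ↘ Spec (CommRingCat.of Γ(Y, V)))
      (F.restrict (π ⁻¹ᵁ V).ι) := by
    refine FlatRestrict.isFlatOver_restrict π _ (π ⁻¹ᵁ V).ι hV.fromSpec ?_ F hfl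
    change _ = ((π ∣_ V) ≫ hV.isoSpec.hom) ≫ hV.fromSpec
    rw [Category.assoc, IsAffineOpen.isoSpec_hom_fromSpec, morphismRestrict_ι]
  obtain ⟨K, hK⟩ := exists_pack (π ⁻¹ᵁ V).toScheme (F.restrict (π ⁻¹ᵁ V).ι) hF' hfl'
  exact ⟨K, hK⟩

theorem secData {V : Y.Opens} (hV : IsAffineOpen V) (K : CxData Γ(Y, V)) (hK : CompData π F hV K) :
    SecData π F K := by
  let iO : (π ⁻¹ᵁ V).toScheme.Over (Spec (CommRingCat.of Γ(Y, V))) := ⟨PackageAsm.strMap π hV⟩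
  obtain ⟨θ₀, hθ⟩ := hK 0
  obtain ⟨e₀, he₀, he₀'⟩ := exists_equiv_H0 π F hV
  refine ⟨{ e₀.trans θ₀ with
    map_smul' := fun a x => ?_ }, fun {X' Z} f ζ α h V' hV' e => ?_⟩
  · exact (congrArg θ₀ (he₀ a x)).trans (hθ.smul a (e₀ x))
  · let := (α.appLE V V' e).hom.toAlgebra
    obtain ⟨e₁, he₁, he₁'⟩ := exists_equiv_H0' π F h.w hV' e
    obtain ⟨θ, hθ1, hθ2⟩ := hθ.bc Γ(Z, V') (ζ ⁻¹ᵁ V').toScheme
      (f.resLE (π ⁻¹ᵁ V) (ζ ⁻¹ᵁ V') (preimage_le h.w V V' e)) (PackageAsm.strMap ζ hV')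
      (isPullback_str h hV hV' e)
    refine ⟨{ e₁.trans θ with map_smul' := fun b x => ?_ }, fun x => ?_⟩
    · exact (congrArg θ (he₁ b x)).trans (hθ1 b (e₁ x))
    · change θ (e₁ _) = K.res 0 _ (θ₀ (e₀ x))
      rw [← hθ2]
      refine congrArg θ (Eq.trans ?_ (he₁' x (e₀ x) (he₀' x)))
      exact congrArg e₁ (secMap_pushSquare π α f ζ h.w (pbUnit f F) V V' e (preimage_le h.w V V' e) x)

end K54.PushSec
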