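import Groth.Agent.Coherent.K54.RelCoh
import Groth.Agent.Gaga.H883.SerreRel

/-!
# Coherence of relative Ext sheaves for closed subschemes of `P^n_Y`; Serre vanishing
-/

set_option autoImplicit false
universe u

open CategoryTheory CategoryTheory.Limits AlgebraicGeometry Opposite TopologicalSpace MonoidalCategory

namespace K54.RelCoh

open K54.RelExt Groth.Agent

variable {X Y : Scheme.{u}}

theorem isProper_of_fac (n : ℕ) (e : X ⟶ CohB1.ProjSpaceOver n Y) [IsClosedImmersion e] (f : X ⟶ Y)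
    (he : e ≫ CohB1.ProjSpaceOver.toBase n Y = f) : IsProper f := by
  rw [← he]
  exact Gaga.H883.SerreRel.isProper_comp n e

theorem isCoh_proj [IsLocallyNoetherian Y] (f : X ⟶ Y) (n : ℕ) (e : X ⟶ CohB1.ProjSpaceOver n Y) [IsClosedImmersion e]
    (he : e ≫ CohB1.ProjSpaceOver.toBase n Y = f) [HasInjectiveResolutions X.Modules]
    {F G : X.Modules} (hF : Coh.IsCoh F) (hG : Coh.IsCoh G) (p : ℕ) :
    Coh.IsCoh (((Phi f F).rightDerived p).obj G) := by
  have := isProper_of_fac n e f he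
  refine isCoh f (Ega3B.ProjFrame.lineOne n e) (fun W hW => ?_) hF hG p
  have h := (Gaga.H883.SerreRel.isRelAmple_lineOne n e).2 ⟨W, hW⟩
  rw [he] at h
  exact h

/-- Relative Serre vanishing for twists. -/
theorem exists_vanishing [IsNoetherian Y] (f : X ⟶ Y) (n : ℕ) (e : X ⟶ CohB1.ProjSpaceOver n Y) [IsClosedImmersion e]
    (he : e ≫ CohB1.ProjSpaceOver.toBase n Y = f) [HasInjectiveResolutions X.Modules] {M : X.Modules}
    (hM : Coh.IsCoh M) :
    ∃ l₀ : ℕ, ∀ l : ℕ, l₀ ≤ l → ∀ q : ℕ, 0 < q → IsZero ((Coh.Rpush f q).obj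
      (CohB1.tensorMod M ((Scheme.Modules.pullback e).obj (Twist.twistOver n Y (l : ℤ))))) := by
  obtain ⟨l₀, h⟩ := Gaga.H883.SerreRel.exists_serre_twist n e hM
  have := isProper_of_fac n e f he
  rw [he] at h
  refine ⟨l₀, fun l hl q hq => ?_⟩
  have hinv : PicF.IsInvertible ((Scheme.Modules.pullback e).obj (Twist.twistOver n Y (l : ℤ))) :=
    Fdesc.LocGen.isInvertible_pullback _ (Ega3B.ProjFrame.isInvertible_twistOver n _)
  refine CohqB.RelVan.isZero_Rpush_of_cover f _ (PerfB.TensInv.isQCoh_tensorRightMod hinv M hM.1) q fun x => ?_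
  obtain ⟨W, hW, hx, -⟩ := exists_isAffineOpen_mem_and_subset (x := x) (U := ⊤) trivial
  exact ⟨W, hx, hW, (h l (by exact_mod_cast hl)).1 q hq W hW⟩

/-- The frozen form of the coherence. -/
theorem isCoh_frozen [IsNoetherian Y] (f : X ⟶ Y)
    (n : ℕ) (e : X ⟶ CohB1.ProjSpaceOver n Y) [IsClosedImmersion e] (he : e ≫ CohB1.ProjSpaceOver.toBase n Y = f)
    (F G : X.Modules) (hF : Coh.IsCoh F) (hG : Coh.IsCoh G)
    [ModSite.HasSheafHom (O := X.sheaf) F] [HasInjectiveResolutions (ModSite.Mod X.sheaf)]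
    [(ModSite.sheafHom (O := X.sheaf) F ⋙ Scheme.Modules.pushforward f).Additive] (p : ℕ) :
    Coh.IsCoh (((ModSite.sheafHom (O := X.sheaf) F ⋙ Scheme.Modules.pushforward f).rightDerived p).obj G) := by
  have hX : HasInjectiveResolutions X.Modules := ‹HasInjectiveResolutions (ModSite.Mod X.sheaf)›
  obtain ⟨i⟩ := nonempty_rdIso f F G p
  exact CohqB.LocalQC.isCoh_of_iso i.symm (isCoh_proj f n e he hF hG p)

end K54.RelCoh
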