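import Groth.Agent.Coherent.K54.RelCohMain
import Groth.Agent.Coherent.K54.DegSS

/-!
# `g_* Ext^p_f(F, G(l)) = Ext^p_{g ∘ f}(F, G(l))` for large `l`
-/

set_option autoImplicit false
universe u

open CategoryTheory CategoryTheory.Limits AlgebraicGeometry Opposite TopologicalSpace MonoidalCategory

namespace K54.RelComp

open K54.RelExt K54.RelCoh Groth.Agent
open scoped Groth.Agent.Dcoh.MonCat

variable {X Y Z : Scheme.{u}}

/-- `f_* Hom(F, -) ⋙ g_* = (f ≫ g)_* Hom(F, -)`. -/
noncomputable def phiComp (f : X ⟶ Y) (g : Y ⟶ Z) (F : X.Modules) :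
    Phi f F ⋙ Scheme.Modules.pushforward g ≅ Phi (f ≫ g) F :=
  Functor.associator _ _ _ ≪≫ Functor.isoWhiskerLeft _ (Scheme.Modules.pushforwardComp f g)

/-- The degenerate case of the spectral sequence of relative Ext. -/
theorem nonempty_comp (f : X ⟶ Y) (g : Y ⟶ Z) [HasInjectiveResolutions X.Modules]
    [HasInjectiveResolutions Y.Modules] (F G : X.Modules) (p : ℕ)
    (h : ∀ b, b < p → ∀ a, 0 < a → IsZero ((Coh.Rpush g a).obj (((Phi f F).rightDerived b).obj G))) :
    Nonempty ((Scheme.Modules.pushforward g).obj (((Phi f F).rightDerived p).obj G) ≅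
      ((Phi (f ≫ g) F).rightDerived p).obj G) := by
  have hX : EnoughInjectives X.Modules := inferInstance
  have hY : EnoughInjectives Y.Modules := inferInstance
  obtain ⟨i⟩ := K54.DegSS.comp (Scheme.Modules.pushforward g) (Phi f F)
    (fun I hI q => isZero_Rpush_phi f g F I hI (q + 1) q.succ_pos) G p
    (fun b hb q => h b hb (q + 1) q.succ_pos)
  exact ⟨i.symm ≪≫ (derIso (phiComp f g F) p).app G⟩

theorem exists_bound [IsNoetherian Z] (m : ℕ) (g : Y ⟶ Z) (e' : Y ⟶ CohB1.ProjSpaceOver m Z) [IsClosedImmersion e']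
    (he' : e' ≫ CohB1.ProjSpaceOver.toBase m Z = g)
    (n : ℕ) (f : X ⟶ Y) (e : X ⟶ CohB1.ProjSpaceOver n Y) [IsClosedImmersion e]
    (he : e ≫ CohB1.ProjSpaceOver.toBase n Y = f) [HasInjectiveResolutions X.Modules]
    [HasInjectiveResolutions Y.Modules]
    (F G : X.Modules) (hF : Coh.IsCoh F) (hG : Coh.IsCoh G) (b : ℕ) :
    ∃ l₀ : ℕ, ∀ l : ℕ, l₀ ≤ l → ∀ a, 0 < a → IsZero ((Coh.Rpush g a).obj (((Phi f F).rightDerived b).obj
      (CohB1.tensorMod G ((Scheme.Modules.pullback f).obj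
            ((Scheme.Modules.pullback e').obj (Twist.twistOver m Z (l : ℤ))))))) := by
  have := isProper_of_fac m e' g he'
  have : IsLocallyNoetherian Y := LocallyOfFiniteType.isLocallyNoetherian g
  obtain ⟨l₀, h⟩ := exists_vanishing g m e' he' (isCoh_proj f n e he hF hG b)
  refine ⟨l₀, fun l hl a ha => ?_⟩
  let N : Y.Modules := (Scheme.Modules.pullback e').obj (Twist.twistOver m Z (l : ℤ))
  have hN : PicF.IsInvertible N :=
    Fdesc.LocGen.isInvertible_pullback _ (Ega3B.ProjFrame.isInvertible_twistOver m _)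
  obtain ⟨N', ⟨hp⟩⟩ := Dcoh.DualFLF.exists_exactPairing (K685.ResolAmple.isFinLocFree_of_isInvertible hN)
  obtain ⟨i⟩ := nonempty_tensor_pull f F G N N' b
  let j : ((Phi f F).rightDerived b).obj (CohB1.tensorMod G ((Scheme.Modules.pullback f).obj N)) ≅
      ((Phi f F).rightDerived b).obj ((Scheme.Modules.pullback f).obj N ⊗ G) :=
    ((Phi f F).rightDerived b).mapIso (β_ G ((Scheme.Modules.pullback f).obj N))
  let k : N ⊗ ((Phi f F).rightDerived b).obj G ≅ CohB1.tensorMod (((Phi f F).rightDerived b).obj G) N :=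
    β_ N (((Phi f F).rightDerived b).obj G)
  exact (h l hl a ha).of_iso ((Coh.Rpush g a).mapIso (j ≪≫ i.symm ≪≫ k))

theorem main [IsNoetherian Z] (m : ℕ) (g : Y ⟶ Z) (e' : Y ⟶ CohB1.ProjSpaceOver m Z) [IsClosedImmersion e']
    (he' : e' ≫ CohB1.ProjSpaceOver.toBase m Z = g)
    (n : ℕ) (f : X ⟶ Y) (e : X ⟶ CohB1.ProjSpaceOver n Y) [IsClosedImmersion e]
    (he : e ≫ CohB1.ProjSpaceOver.toBase n Y = f)
    (F G : X.Modules) (hF : Coh.IsCoh F) (hG : Coh.IsCoh G) (p : ℕ)
    [ModSite.HasSheafHom (O := X.sheaf) F] [HasInjectiveResolutions (ModSite.Mod X.sheaf)]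
    [(ModSite.sheafHom (O := X.sheaf) F ⋙ Scheme.Modules.pushforward f).Additive]
    [(ModSite.sheafHom (O := X.sheaf) F ⋙ Scheme.Modules.pushforward (f ≫ g)).Additive] :
    ∃ l₀ : ℕ, ∀ l : ℕ, l₀ ≤ l →
      Nonempty ((Scheme.Modules.pushforward g).obj (((ModSite.sheafHom (O := X.sheaf) F ⋙ Scheme.Modules.pushforward f).rightDerived p).obj
          (CohB1.tensorMod G ((Scheme.Modules.pullback f).obj
            ((Scheme.Modules.pullback e').obj (Twist.twistOver m Z (l : ℤ)))))) ≅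
        ((ModSite.sheafHom (O := X.sheaf) F ⋙ Scheme.Modules.pushforward (f ≫ g)).rightDerived p).obj
          (CohB1.tensorMod G ((Scheme.Modules.pullback f).obj
            ((Scheme.Modules.pullback e').obj (Twist.twistOver m Z (l : ℤ)))))) := by
  have hX : HasInjectiveResolutions X.Modules := ‹HasInjectiveResolutions (ModSite.Mod X.sheaf)›
  have hY := Dcoh.DerSch.hasInjectiveResolutions Y
  choose l₀ h using exists_bound m g e' he' n f e he F G hF hG
  refine ⟨(Finset.range p).sup l₀, fun l hl => ?_⟩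
  let M : X.Modules := CohB1.tensorMod G ((Scheme.Modules.pullback f).obj
    ((Scheme.Modules.pullback e').obj (Twist.twistOver m Z (l : ℤ))))
  obtain ⟨i⟩ := nonempty_comp f g F M p (fun b hb => h b l
    ((Finset.le_sup (f := l₀) (Finset.mem_range.2 hb)).trans hl))
  obtain ⟨j⟩ := nonempty_rdIso f F M p
  obtain ⟨k⟩ := nonempty_rdIso (f ≫ g) F M p
  exact ⟨(Scheme.Modules.pushforward g).mapIso j ≪≫ i ≪≫ k.symm⟩

end K54.RelComp
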